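import Cfsg.Agent.Lib.Peterfalvi.Pair.Contradiction
import Mathlib.GroupTheory.Solvable

/-!
Groups of odd order are solvable.
-/

set_option autoImplicit false
set_option linter.style.haveILetI false

namespace CfsgLib.OddOrder

open Cfsg

universe u

theorem solvable_of_odd : ∀ (n : ℕ) (G : Type u) [Group G] [Finite G], Nat.card G = n →
    Odd (Nat.card G) → Group.IsSolvable G := by
  intro n
  induction n using Nat.strong_induction_on with
  | _ n ih =>
    intro G _ _ hn hodd
    by_cases hc : IsMulCommutative G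
    · exact isSolvable_of_comm fun a b => mul_comm' a b
    by_cases hN : ∃ N : Subgroup G, N.Normal ∧ N ≠ ⊥ ∧ N ≠ ⊤
    · obtain ⟨N, hNn, hNb, hNt⟩ := hN
      haveI := hNn
      have h1 : Nat.card N < n := hn ▸ Nat.lt_of_le_of_ne (Subgroup.card_le_card_group N)
        fun e => hNt (Subgroup.eq_top_of_card_eq N e)
      have h2 : Nat.card (G ⧸ N) < n := by
        rw [← hn, ← N.card_mul_index, Subgroup.index_eq_card]
        exact lt_mul_of_one_lt_left Nat.card_pos ((Subgroup.one_lt_card_iff_ne_bot N).mpr hNb)
      haveI := ih _ h1 N rfl (hodd.of_dvd_nat N.card_subgroup_dvd_card)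
      haveI := ih _ h2 (G ⧸ N) rfl (hodd.of_dvd_nat (Subgroup.card_quotient_dvd_card N))
      exact Group.isSolvable_of_ker_le_range N.subtype (QuotientGroup.mk' N)
        (by rw [QuotientGroup.ker_mk', Subgroup.range_subtype])
    push Not at hN
    haveI : Nontrivial G := not_subsingleton_iff_nontrivial.mp fun hs =>
      hc ⟨⟨fun a b => Subsingleton.elim _ _⟩⟩
    haveI : IsSimpleGroup G := ⟨fun N hNn => or_iff_not_imp_left.mpr fun hb => hN N hNn hb⟩
    refine (Peterfalvi.not_isMinSimpleOddOrder (G := G) ⟨hodd, inferInstance, hc, fun H hH => ?_⟩).elim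
    exact ih _ (hn ▸ Nat.lt_of_le_of_ne (Subgroup.card_le_card_group H)
      fun e => hH (Subgroup.eq_top_of_card_eq H e)) H rfl (hodd.of_dvd_nat H.card_subgroup_dvd_card)

/-- The odd order theorem. -/
theorem odd_order_solvable {G : Type u} [Group G] [Finite G] (hG : Odd (Nat.card G)) :
    Group.IsSolvable G :=
  solvable_of_odd _ G rfl hG

end CfsgLib.OddOrder
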