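import Cfsg.Agent.Lib.OddOrder.NormPair

/-!
# The final configuration of the odd order theorem

`H = P U` with `P` the additive group of a field with `p ^ q` elements and `U` acting as its norm-one
group, `Q` an abelian `p'`-group normalized by the prime line `P₀` and `y ∈ Q` with `P₀ ^ y ≤ N(U)`.
Then `p ≤ q`.
-/

set_option autoImplicit false
set_option linter.style.haveILetI false
set_option linter.unusedSectionVars false

namespace CfsgLib.FieldConfig

open CfsgLib.NormPair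

variable {G : Type*} [Group G] [Finite G] {p q : ℕ} [hp : Fact p.Prime] [hq : Fact q.Prime]
variable {F : Type*} [Field F] [Fintype F] [CharP F p]

/-- The configuration. -/
structure Cfg (p q : ℕ) (P U Q : Subgroup G) (f ψ : G → F) (y : G) : Prop where
  card : Fintype.card F = p ^ q
  cop : (nn p q).Coprime (p - 1)
  two : p ≠ 2
  lt : q < p
  bij : Set.BijOn f (P : Set G) Set.univ
  add : ∀ x ∈ P, ∀ z ∈ P, f (x * z) = f x + f z
  norm : U ≤ Subgroup.normalizer (P : Set G)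
  act : ∀ u ∈ U, ψ u ≠ 0 ∧ ∀ x ∈ P, f (u * x * u⁻¹) = ψ u * f x
  mulψ : ∀ u ∈ U, ∀ v ∈ U, ψ (u * v) = ψ u * ψ v
  inj : Set.InjOn ψ (U : Set G)
  cardU : Nat.card U = nn p q
  comm : IsMulCommutative Q
  copQ : (Nat.card Q).Coprime p
  line : ∀ x ∈ P, f x ^ p = f x → x ∈ Subgroup.normalizer (Q : Set G)
  mem : y ∈ Q
  conjLine : ∀ x ∈ P, f x ^ p = f x → y * x * y⁻¹ ∈ Subgroup.normalizer (U : Set G)

/-- The inverse of `f` on `P`. -/
noncomputable def pt (P : Subgroup G) (f : G → F) (x : F) : G :=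
  Function.invFunOn f (P : Set G) x

/-- The prime line. -/
noncomputable def sLine (p : ℕ) [CharP F p] (P : Subgroup G) (f : G → F) (i : ZMod p) : G :=
  pt P f (ZMod.castHom (dvd_refl p) F i)

/-- The conjugate prime line. -/
noncomputable def tLine (p : ℕ) [CharP F p] (P : Subgroup G) (f : G → F) (y : G) (i : ZMod p) : G :=
  y * sLine p P f i * y⁻¹

namespace Cfg

variable {P U Q : Subgroup G} {f ψ : G → F} {y : G} (c : Cfg p q P U Q f ψ y)

local notation "e" => pt P f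
local notation "φ" => ZMod.castHom (dvd_refl p) F
local notation "S" => sLine p P f
local notation "T" => tLine p P f y

include c

theorem e_mem (x : F) : e x ∈ P := Function.invFunOn_mem (c.bij.surjOn (Set.mem_univ x))

theorem f_e (x : F) : f (e x) = x := Function.invFunOn_eq (c.bij.surjOn (Set.mem_univ x))

theorem e_f {g : G} (hg : g ∈ P) : e (f g) = g := c.bij.injOn (c.e_mem _) hg (c.f_e _)

theorem e_add (a b : F) : e (a + b) = e a * e b :=
  c.bij.injOn (c.e_mem _) (P.mul_mem (c.e_mem a) (c.e_mem b))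
    (by rw [c.f_e, c.add _ (c.e_mem a) _ (c.e_mem b), c.f_e, c.f_e])

theorem e_zero : e (0 : F) = 1 := by
  have h := c.e_add 0 0
  rw [add_zero] at h
  exact mul_eq_left.mp h.symm

theorem e_neg (a : F) : e (-a) = (e a)⁻¹ :=
  (inv_eq_of_mul_eq_one_right (by rw [← c.e_add, add_neg_cancel, c.e_zero])).symm

theorem e_inj {a b : F} (h : e a = e b) : a = b := by rw [← c.f_e a, h, c.f_e]

theorem e_conj {u : G} (hu : u ∈ U) (x : F) : u * e x * u⁻¹ = e (ψ u * x) :=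
  c.bij.injOn ((Subgroup.mem_normalizer_iff.mp (c.norm hu) _).mp (c.e_mem x)) (c.e_mem _)
    (by rw [(c.act u hu).2 _ (c.e_mem x), c.f_e, c.f_e])

theorem e_comm {u : G} (hu : u ∈ U) (x : F) : u * e x = e (ψ u * x) * u := by
  rw [← c.e_conj hu, inv_mul_cancel_right]

theorem ψ_one : ψ 1 = 1 := by
  have h := c.mulψ 1 U.one_mem 1 U.one_mem
  rw [mul_one] at h
  exact (mul_eq_left₀ (c.act 1 U.one_mem).1).mp h.symm

theorem ψ_inv {u : G} (hu : u ∈ U) : ψ u⁻¹ = (ψ u)⁻¹ :=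
  eq_inv_of_mul_eq_one_left (by rw [← c.mulψ _ (U.inv_mem hu) u hu, inv_mul_cancel, c.ψ_one])

theorem ψ_pow {u : G} (hu : u ∈ U) (k : ℕ) : ψ (u ^ k) = ψ u ^ k := by
  induction k with
  | zero => rw [pow_zero, pow_zero, c.ψ_one]
  | succ k ih => rw [pow_succ, pow_succ, c.mulψ _ (U.pow_mem hu k) u hu, ih]

theorem U_comm {u v : G} (hu : u ∈ U) (hv : v ∈ U) : u * v = v * u :=
  c.inj (U.mul_mem hu hv) (U.mul_mem hv hu) (by rw [c.mulψ u hu v hv, c.mulψ v hv u hu, mul_comm])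

theorem eq_one_of_ψ {u : G} (hu : u ∈ U) (h : ψ u = 1) : u = 1 :=
  c.inj hu U.one_mem (by rw [h, c.ψ_one])

theorem ψ_normOne {u : G} (hu : u ∈ U) : ψ u ^ nn p q = 1 := by
  rw [← c.ψ_pow hu, ← c.cardU]
  have : (⟨u, hu⟩ : U) ^ Nat.card U = 1 := pow_card_eq_one'
  rw [show u ^ Nat.card U = 1 from congrArg Subtype.val this, c.ψ_one]

theorem exists_ψ {a : F} (ha : a ^ nn p q = 1) : ∃ u ∈ U, ψ u = a := by
  classical
  haveI : Fintype U := Fintype.ofFinite U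
  set A := (Finset.univ : Finset U).image (fun u : U => ψ u)
  have hA : A ⊆ Finset.univ.filter (fun x : F => x ^ nn p q = 1) := by
    intro x hx
    obtain ⟨u, -, rfl⟩ := Finset.mem_image.mp hx
    simp [c.ψ_normOne u.2]
  have hAc : A.card = nn p q := by
    have hinj : Function.Injective (fun u : U => ψ u) := fun u v h => Subtype.ext (c.inj u.2 v.2 h)
    rw [show A = Finset.univ.image (fun u : U => ψ u) from rfl,
      Finset.card_image_of_injective _ hinj, Finset.card_univ, ← Nat.card_eq_fintype_card, c.cardU]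
  have h := Finset.eq_of_subset_of_card_le hA (by rw [hAc, card_normOne c.card])
  have : a ∈ A := by rw [h]; simp [ha]
  obtain ⟨u, -, hu⟩ := Finset.mem_image.mp this
  exact ⟨u, u.2, hu⟩

theorem exists_ne_one_U : ∃ u ∈ U, u ≠ 1 := by
  by_contra h
  push Not at h
  have h1 : Nat.card U = 1 := Subgroup.card_eq_one.mpr (eq_bot_iff.mpr fun u hu => Subgroup.mem_bot.mpr (h u hu))
  rw [c.cardU, nn_eq_sum] at h1
  have hle := Finset.sum_le_sum_of_subset (f := fun j => p ^ j)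
    (Finset.range_subset_range.mpr hq.out.two_le)
  rw [h1, Finset.sum_range_succ, Finset.sum_range_one, pow_zero, pow_one] at hle
  have := hp.out.two_le
  omega

theorem eU_unique {a b : F} {u v : G} (hu : u ∈ U) (hv : v ∈ U) (h : e a * u = e b * v) :
    a = b ∧ u = v := by
  have h1 : u * v⁻¹ ∈ P := by
    rw [show u * v⁻¹ = (e a)⁻¹ * (e a * u) * v⁻¹ by group, h,
      show (e a)⁻¹ * (e b * v) * v⁻¹ = (e a)⁻¹ * e b by group]
    exact P.mul_mem (P.inv_mem (c.e_mem a)) (c.e_mem b)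
  have hw : u * v⁻¹ ∈ U := U.mul_mem hu (U.inv_mem hv)
  have h2 : u * v⁻¹ = 1 := by
    apply c.eq_one_of_ψ hw
    obtain ⟨d, hd⟩ : ∃ d, u * v⁻¹ = e d := ⟨_, (c.e_f h1).symm⟩
    have h3 := c.e_conj hw 1
    have h5 : u * v⁻¹ * e (1 : F) * (u * v⁻¹)⁻¹ = e (1 : F) := by
      rw [hd, ← c.e_neg, ← c.e_add, ← c.e_add, add_neg_cancel_comm]
    rw [mul_one] at h3
    exact (c.e_inj (h5.symm.trans h3)).symm
  rw [mul_inv_eq_one] at h2
  subst h2
  exact ⟨c.e_inj (mul_right_cancel h), rfl⟩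

theorem eU_mem {a : F} {u : G} (hu : u ∈ U) (h : e a * u ∈ U) : a = 0 :=
  (c.eU_unique (b := 0) hu h (by rw [c.e_zero, one_mul])).1

/-! ### The prime line and its conjugate -/

theorem φ_pow (i : ZMod p) : (φ i) ^ p = φ i := by rw [← map_pow, ZMod.pow_card]

theorem S_mem (i : ZMod p) : S i ∈ P := c.e_mem _

theorem S_zero : S (0 : ZMod p) = 1 := by rw [sLine, map_zero]; exact c.e_zero

theorem S_add (i j : ZMod p) : S (i + j) = S i * S j := by rw [sLine, map_add]; exact c.e_add _ _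

theorem S_neg (i : ZMod p) : S (-i) = (S i)⁻¹ := by rw [sLine, map_neg]; exact c.e_neg _

theorem S_norm (i : ZMod p) : S i ∈ Subgroup.normalizer (Q : Set G) :=
  c.line _ (c.S_mem i) (by rw [sLine, c.f_e]; exact c.φ_pow i)

theorem T_norm (i : ZMod p) : T i ∈ Subgroup.normalizer (Q : Set G) :=
  mul_mem (mul_mem (Subgroup.le_normalizer c.mem) (c.S_norm i)) (inv_mem (Subgroup.le_normalizer c.mem))

theorem T_conj (i : ZMod p) {u : G} (hu : u ∈ U) : T i * u * T (-i) ∈ U := by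
  have h := c.conjLine _ (c.S_mem i) (by rw [sLine, c.f_e]; exact c.φ_pow i)
  have e' : T (-i) = (T i)⁻¹ := by
    show y * S (-i) * y⁻¹ = (y * S i * y⁻¹)⁻¹
    rw [c.S_neg]; group
  rw [e']
  exact (Subgroup.mem_normalizer_iff.mp h u).mp hu

theorem T_add (i j : ZMod p) : T (i + j) = T i * T j := by
  show y * S (i + j) * y⁻¹ = y * S i * y⁻¹ * (y * S j * y⁻¹)
  rw [c.S_add]; group

theorem T_zero : T (0 : ZMod p) = 1 := by
  show y * S (0 : ZMod p) * y⁻¹ = 1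
  rw [c.S_zero]; group

theorem T_neg (i : ZMod p) : T (-i) = (T i)⁻¹ :=
  (inv_eq_of_mul_eq_one_right (by rw [← c.T_add, add_neg_cancel, c.T_zero])).symm

theorem Y_mem (i : ZMod p) : S i * y * (S i)⁻¹ ∈ Q :=
  (Subgroup.mem_normalizer_iff.mp (c.S_norm i) y).mp c.mem

theorem Q_comm {a b : G} (ha : a ∈ Q) (hb : b ∈ Q) : a * b = b * a :=
  haveI := c.comm
  congrArg Subtype.val (mul_comm' (⟨a, ha⟩ : Q) ⟨b, hb⟩)

/-- The commutation identity coming from `Q` abelian. -/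
theorem master (i j : ZMod p) : T (-i) * S j * T (i - j) = S (j - i) * T (-j) * S i := by
  have h1 : T (-i) * S j * T (i - j) =
      y * ((S (-i) * y * (S (-i))⁻¹)⁻¹ * (S (j - i) * y * (S (j - i))⁻¹)) * y⁻¹ := by
    show y * S (-i) * y⁻¹ * S j * (y * S (i - j) * y⁻¹) = _
    rw [show j = (-(-i)) + (j - i) by ring, c.S_add, c.S_neg (-i),
      show i - (-(-i) + (j - i)) = -(j - i) by ring, c.S_neg (j - i),
      show -(-i) + (j - i) - i = j - i by ring]
    group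
  have h2 : S (j - i) * T (-j) * S i =
      (S (j - i) * y * (S (j - i))⁻¹) * (S (-i) * y * (S (-i))⁻¹)⁻¹ := by
    show S (j - i) * (y * S (-j) * y⁻¹) * S i = _
    rw [show -j = -(j - i) + -i by ring, c.S_add, c.S_neg (j - i), c.S_neg i]
    group
  have hq := Q.mul_mem (Q.inv_mem (c.Y_mem (-i))) (c.Y_mem (j - i))
  rw [h1, h2, c.Q_comm c.mem hq, mul_inv_cancel_right, c.Q_comm (Q.inv_mem (c.Y_mem (-i))) (c.Y_mem (j - i))]

theorem Q_inf {a : F} {u : G} (hu : u ∈ U) (h : e a * u ∈ Q) : a = 0 ∧ u = 1 := by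
  have key : ∀ b : F, e b ∈ Q → b = 0 := by
    intro b hb
    have h1 : (e b) ^ p = 1 := by
      have : ∀ k : ℕ, (e b) ^ k = e ((k : F) * b) := by
        intro k
        induction k with
        | zero => simp [c.e_zero]
        | succ k ih => rw [pow_succ, ih, ← c.e_add]; push_cast; ring_nf
      rw [this, CharP.cast_eq_zero, zero_mul, c.e_zero]
    have h2 : (e b) ^ Nat.card Q = 1 := congrArg Subtype.val (pow_card_eq_one' (x := (⟨e b, hb⟩ : Q)))
    have h3 := pow_gcd_eq_one.mpr ⟨h2, h1⟩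
    rw [c.copQ, pow_one, ← c.e_zero] at h3
    exact c.e_inj h3
  have hs : S 1 * (e a * u) * (S 1)⁻¹ ∈ Q := (Subgroup.mem_normalizer_iff.mp (c.S_norm 1) _).mp h
  have h3 : e (1 - ψ u) ∈ Q := by
    have h4 := Q.mul_mem hs (Q.inv_mem h)
    have h5 : S 1 * (e a * u) * (S 1)⁻¹ * (e a * u)⁻¹ = e (1 - ψ u) := by
      rw [sLine, map_one, mul_inv_rev, ← c.e_neg, ← c.e_neg,
        show e 1 * (e a * u) * e (-1) * (u⁻¹ * e (-a)) = e 1 * e a * (u * e (-1) * u⁻¹) * e (-a) by group,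
        c.e_conj hu, ← c.e_add, ← c.e_add, ← c.e_add]
      ring_nf
    rwa [h5] at h4
  have hu1 : u = 1 := c.eq_one_of_ψ hu (sub_eq_zero.mp (key _ h3)).symm
  subst hu1
  rw [mul_one] at h
  exact ⟨key a h, rfl⟩

theorem pow_p_eq_one {x : Q} (h1 : x ^ p = 1) : x = 1 := by
  have h3 := pow_gcd_eq_one.mpr ⟨(pow_card_eq_one' : x ^ Nat.card Q = 1), h1⟩
  rwa [c.copQ, pow_one] at h3

/-- An element of the form `Y a Y b (Y c)⁻¹ (Y d)⁻¹` centralized by the line is trivial. -/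
theorem Y_four (a b k l : ZMod p)
    (h : ∀ i, S i * ((S a * y * (S a)⁻¹) * (S b * y * (S b)⁻¹) * ((S k * y * (S k)⁻¹) * (S l * y * (S l)⁻¹))⁻¹) * (S i)⁻¹ =
      (S a * y * (S a)⁻¹) * (S b * y * (S b)⁻¹) * ((S k * y * (S k)⁻¹) * (S l * y * (S l)⁻¹))⁻¹) :
    (S a * y * (S a)⁻¹) * (S b * y * (S b)⁻¹) = (S k * y * (S k)⁻¹) * (S l * y * (S l)⁻¹) := by
  haveI := c.comm
  letI : CommGroup Q := { (inferInstance : Group Q) with mul_comm := mul_comm' }
  let Z : ZMod p → Q := fun i => ⟨_, c.Y_mem i⟩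
  have hZ : ∀ i j, (Z (i + j) : G) = S i * (Z j : G) * (S i)⁻¹ := fun i j => by
    show S (i + j) * y * (S (i + j))⁻¹ = _
    rw [c.S_add]; simp only [Z]; group
  set δ : ZMod p → Q := fun i => Z (i + a) * Z (i + b) * (Z (i + k) * Z (i + l))⁻¹ with hδ
  have h0 : (δ 0 : G) = (S a * y * (S a)⁻¹) * (S b * y * (S b)⁻¹) * ((S k * y * (S k)⁻¹) * (S l * y * (S l)⁻¹))⁻¹ := by
    simp only [hδ, zero_add, Subgroup.coe_mul, Subgroup.coe_inv, Z]
  have hfix : ∀ i, δ i = δ 0 := fun i => Subtype.ext (by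
    rw [h0]
    refine Eq.trans ?_ (h i)
    simp only [hδ, Subgroup.coe_mul, Subgroup.coe_inv, hZ]
    simp only [Z]
    group)
  have hshift : ∀ m : ZMod p, ∏ i, Z (i + m) = ∏ i, Z i := fun m =>
    Fintype.prod_equiv (Equiv.addRight m) _ _ fun i => rfl
  have hprod : ∏ i, δ i = 1 := by
    simp only [hδ, Finset.prod_mul_distrib, Finset.prod_inv_distrib, hshift]
    exact mul_inv_cancel _
  have hp1 : δ 0 ^ p = 1 := by
    rw [← hprod, Finset.prod_congr rfl (fun i _ => hfix i), Finset.prod_const, Finset.card_univ, ZMod.card]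
  have h1 := congrArg Subtype.val (c.pow_p_eq_one hp1)
  rw [h0] at h1
  exact mul_inv_eq_one.mp h1

theorem S_not_norm {j : ZMod p} (hj : j ≠ 0) : ¬ ∀ u ∈ U, S j * u * (S j)⁻¹ ∈ U := by
  intro h
  obtain ⟨u, hu, hu1⟩ := c.exists_ne_one_U
  have h1 := h u hu
  rw [← c.S_neg, mul_assoc] at h1
  simp only [sLine, map_neg] at h1
  rw [c.e_comm hu, ← mul_assoc, ← c.e_add] at h1
  have h2 := c.eU_mem hu h1
  apply hu1
  refine c.eq_one_of_ψ hu ?_
  have hj0 : (φ j : F) ≠ 0 := fun h0 => hj ((ZMod.castHom (dvd_refl p) F).injective (by rw [h0, map_zero]))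
  apply mul_right_cancel₀ hj0
  linear_combination -h2

theorem T_ne_S {j : ZMod p} (hj : j ≠ 0) : T j ≠ S j := fun h =>
  c.S_not_norm hj fun u hu => by
    have := c.T_conj j hu
    rwa [c.T_neg, h] at this

/-- `H ∩ T j H T (-j) = U`. -/
theorem inter {j : ZMod p} (hj : j ≠ 0) {x z : F} {u v : G} (hu : u ∈ U) (hv : v ∈ U)
    (h : T j * (e x * u) * T (-j) = e z * v) : x = 0 := by
  by_contra hx
  let D : Set F := {a | ∃ b, T j * e a * T (-j) = e b}
  have hDadd : ∀ a b, a ∈ D → b ∈ D → a + b ∈ D := by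
    rintro a b ⟨a', ha⟩ ⟨b', hb⟩
    refine ⟨a' + b', ?_⟩
    rw [c.e_add, c.e_add, ← ha, ← hb, c.T_neg]
    group
  have hDψ : ∀ w ∈ U, ∀ a ∈ D, ψ w * a ∈ D := by
    rintro w hw a ⟨a', ha⟩
    refine ⟨ψ (T j * w * T (-j)) * a', ?_⟩
    rw [← c.e_conj hw, ← c.e_conj (c.T_conj j hw), ← ha, c.T_neg]
    group
  have hDx : x ∈ D := by
    have hu' := c.T_conj j hu
    have hw := U.mul_mem hv (U.inv_mem hu')
    have he : T j * e x * T (-j) = e z * (v * (T j * u * T (-j))⁻¹) := by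
      rw [← mul_assoc, ← h, c.T_neg]; group
    refine ⟨z, ?_⟩
    suffices h1 : v * (T j * u * T (-j))⁻¹ = 1 by rw [he, h1, mul_one]
    apply c.eq_one_of_ψ hw
    have hpow : ∀ k : ℕ, ∃ b, (e z * (v * (T j * u * T (-j))⁻¹)) ^ k = e b * (v * (T j * u * T (-j))⁻¹) ^ k := by
      intro k
      induction k with
      | zero => exact ⟨0, by simp [c.e_zero]⟩
      | succ k ih =>
        obtain ⟨b, hb⟩ := ih
        refine ⟨b + ψ ((v * (T j * u * T (-j))⁻¹) ^ k) * z, ?_⟩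
        rw [pow_succ, hb, c.e_add, ← c.e_conj (U.pow_mem hw k), pow_succ]
        group
    obtain ⟨b, hb⟩ := hpow p
    have hxp : ∀ k : ℕ, e x ^ k = e ((k : F) * x) := by
      intro k
      induction k with
      | zero => simp [c.e_zero]
      | succ k ih => rw [pow_succ, ih, ← c.e_add]; push_cast; ring_nf
    have h0 : (T j * e x * T (-j)) ^ p = 1 := by
      rw [c.T_neg, conj_pow, hxp, CharP.cast_eq_zero, zero_mul, c.e_zero, mul_one, mul_inv_cancel]
    rw [← he, h0] at hb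
    have hb' : e (0 : F) * 1 = e b * (v * (T j * u * T (-j))⁻¹) ^ p := by
      rw [c.e_zero, one_mul]; exact hb
    have h2 : (v * (T j * u * T (-j))⁻¹) ^ p = 1 :=
      (c.eU_unique U.one_mem (U.pow_mem hw p) hb').2.symm
    apply frobenius_inj F p
    rw [map_one, frobenius_def, ← c.ψ_pow hw, h2, c.ψ_one]
  have hDtop : ∀ a, a ∈ D := by
    intro a
    have hD0 : (0 : F) ∈ D := ⟨0, by rw [c.e_zero, mul_one, c.T_neg, mul_inv_cancel]⟩
    rcases eq_or_ne a 0 with rfl | ha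
    · exact hD0
    obtain ⟨i, w, hi, -, hw, hiw⟩ := exists_decomp c.card c.two c.cop (div_ne_zero ha hx)
    obtain ⟨k, -, rfl⟩ := exists_natCast c.card hi
    obtain ⟨w', hw', rfl⟩ := c.exists_ψ hw
    have : ∀ m : ℕ, (m : F) * (ψ w' * x) ∈ D := by
      intro m
      induction m with
      | zero => simpa using hD0
      | succ m ih =>
        push_cast
        rw [add_mul, one_mul]
        exact hDadd _ _ ih (hDψ w' hw' x hDx)
    have e2 : a = (k : F) * (ψ w' * x) := by rw [← mul_assoc, ← hiw, div_mul_cancel₀ a hx]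
    rw [e2]; exact this k
  have hTk : ∀ (k : ℕ) (a : F), ∃ b, T (k * j) * e a * T (-(k * j)) = e b := by
    intro k
    induction k with
    | zero => intro a; exact ⟨a, by rw [Nat.cast_zero, zero_mul, neg_zero, c.T_zero, one_mul, mul_one]⟩
    | succ k ih =>
      intro a
      obtain ⟨b, hb⟩ := hDtop a
      obtain ⟨b', hb'⟩ := ih b
      refine ⟨b', ?_⟩
      rw [← hb', ← hb, show ((k + 1 : ℕ) : ZMod p) * j = k * j + j by push_cast; ring,
        c.T_neg, c.T_neg, c.T_neg, c.T_add]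
      group
  obtain ⟨b, hb⟩ : ∃ b, T (-1 : ZMod p) * e (1 : F) * T (1 : ZMod p) = e b := by
    obtain ⟨k, hk⟩ : ∃ k : ℕ, (k : ZMod p) * j = -1 :=
      ⟨((-1 : ZMod p) / j).val, by rw [ZMod.natCast_zmod_val, div_mul_cancel₀ _ hj]⟩
    obtain ⟨b, hb⟩ := hTk k 1
    exact ⟨b, by rwa [hk, neg_neg] at hb⟩
  set w := S 1 * T (-1 : ZMod p) with hw
  have hwQ : w ∈ Q := by
    have := Q.mul_mem (c.Y_mem 1) (Q.inv_mem c.mem)
    rwa [show S 1 * y * (S 1)⁻¹ * y⁻¹ = w by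
      rw [hw]; show _ = S 1 * (y * S (-1) * y⁻¹); rw [c.S_neg]; group] at this
  have hws : w * S 1 * w⁻¹ * (S 1)⁻¹ = 1 := by
    have h1 : w * S 1 * w⁻¹ * (S 1)⁻¹ = e b * (S 1)⁻¹ := by
      have he1 : S (1 : ZMod p) = e (1 : F) := by rw [sLine, map_one]
      rw [hw, mul_inv_rev, ← c.T_neg, neg_neg]
      have h' : S 1 * T (-1 : ZMod p) * S 1 * (T (1 : ZMod p) * (S 1)⁻¹) * (S 1)⁻¹ =
          S 1 * (T (-1 : ZMod p) * S 1 * T (1 : ZMod p)) * (S 1)⁻¹ * (S 1)⁻¹ := by group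
      rw [h']
      nth_rw 2 [he1]
      rw [hb, he1, ← c.e_add, ← c.e_neg, ← c.e_add, ← c.e_add, ← c.e_add]
      ring_nf
    have h2 : w * S 1 * w⁻¹ * (S 1)⁻¹ ∈ Q := by
      rw [show w * S 1 * w⁻¹ * (S 1)⁻¹ = w * (S 1 * w⁻¹ * (S 1)⁻¹) by group]
      exact Q.mul_mem hwQ ((Subgroup.mem_normalizer_iff.mp (c.S_norm 1) _).mp (Q.inv_mem hwQ))
    rw [h1, sLine, map_one, ← c.e_neg, ← c.e_add] at h2 ⊢
    have h3 := (c.Q_inf (U.one_mem) (by rwa [mul_one])).1
    rw [h3, c.e_zero]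
  rw [mul_inv_eq_one, mul_inv_eq_iff_eq_mul] at hws
  have hwc : ∀ k : ℕ, S (k : ZMod p) * w = w * S (k : ZMod p) := by
    intro k
    induction k with
    | zero => rw [Nat.cast_zero, c.S_zero, one_mul, mul_one]
    | succ k ih => rw [Nat.cast_succ, c.S_add, mul_assoc, ← hws, ← mul_assoc, ih, mul_assoc]
  have hwy : w = S 1 * y * (S 1)⁻¹ * y⁻¹ := by
    rw [hw]; show S 1 * (y * S (-1) * y⁻¹) = _; rw [c.S_neg]; group
  have hY := c.Y_four 1 0 0 0 (fun i => by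
    have := hwc i.val
    rw [ZMod.natCast_zmod_val, hwy] at this
    rw [c.S_zero]
    simp only [one_mul, inv_one, mul_one, mul_inv_rev]
    rw [show S 1 * y * (S 1)⁻¹ * y * (y⁻¹ * y⁻¹) = S 1 * y * (S 1)⁻¹ * y⁻¹ by group, this,
      mul_inv_cancel_right])
  rw [c.S_zero] at hY
  simp only [one_mul, inv_one, mul_one] at hY
  have hcom := mul_right_cancel hY
  refine c.T_ne_S (one_ne_zero : (1 : ZMod p) ≠ 0) ?_
  show y * S 1 * y⁻¹ = S 1
  rw [mul_inv_eq_iff_eq_mul] at hcom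
  rw [← hcom, mul_inv_cancel_right]

/-- `U ∩ N(Q) = 1`. -/
theorem U_inf_norm {u : G} (hu : u ∈ U) (h : u ∈ Subgroup.normalizer (Q : Set G)) : u = 1 := by
  set u' := T (-1 : ZMod p) * u * T (1 : ZMod p) with hu'
  have hu'U : u' ∈ U := by
    have := c.T_conj (-1) hu
    rwa [neg_neg] at this
  set w := S 1 * T (-1 : ZMod p) with hw
  have hwQ : w ∈ Q := by
    have := Q.mul_mem (c.Y_mem 1) (Q.inv_mem c.mem)
    rwa [show S 1 * y * (S 1)⁻¹ * y⁻¹ = w by
      rw [hw]; show _ = S 1 * (y * S (-1) * y⁻¹); rw [c.S_neg]; group] at this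
  have hq : w * u * w⁻¹ * u⁻¹ ∈ Q := by
    rw [show w * u * w⁻¹ * u⁻¹ = w * (u * w⁻¹ * u⁻¹) by group]
    exact Q.mul_mem hwQ ((Subgroup.mem_normalizer_iff.mp h _).mp (Q.inv_mem hwQ))
  have he : w * u * w⁻¹ * u⁻¹ = e (1 - ψ u') * (u' * u⁻¹) := by
    rw [hw, mul_inv_rev, ← c.T_neg, neg_neg,
      show S 1 * T (-1 : ZMod p) * u * (T (1 : ZMod p) * (S 1)⁻¹) * u⁻¹ = S 1 * (u' * (S 1)⁻¹) * u⁻¹ by
        rw [hu']; group,
      sLine, map_one, ← c.e_neg, c.e_comm hu'U, ← mul_assoc, ← c.e_add, mul_neg_one, ← sub_eq_add_neg]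
    group
  rw [he] at hq
  obtain ⟨h1, h2⟩ := c.Q_inf (U.mul_mem hu'U (U.inv_mem hu)) hq
  rw [mul_inv_eq_one] at h2
  rw [← h2]
  exact c.eq_one_of_ψ hu'U (sub_eq_zero.mp h1).symm

/-- A pure equation forces the exponent `1`. -/
theorem rigid (M N N' : ZMod p) (hN : N ≠ 0)
    (h : T (-1 : ZMod p) * S M * T (-1 : ZMod p) = S N * T (-2 : ZMod p) * S N') : N = 1 := by
  set Y : ZMod p → G := fun i => S i * y * (S i)⁻¹ with hY
  have hL : T (-1 : ZMod p) * S M * T (-1 : ZMod p) =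
      (Y 0 * (Y (-1))⁻¹ * (Y (M - 1) * (Y (M - 2))⁻¹)) * S (M - 2) := by
    show y * S (-1) * y⁻¹ * S M * (y * S (-1) * y⁻¹) = _
    rw [hY]
    simp only [c.S_zero]
    rw [show S M = S (1 : ZMod p) * S (M - 1) by rw [← c.S_add]; congr 1; ring,
      show S (M - 2) = S (M - 1) * S (-1) by rw [← c.S_add]; congr 1; ring]
    rw [c.S_neg 1]
    group
  have hR : S N * T (-2 : ZMod p) * S N' = (Y N * (Y (N - 2))⁻¹) * S (N - 2 + N') := by
    show S N * (y * S (-2) * y⁻¹) * S N' = _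
    rw [hY, c.S_add]
    simp only
    rw [show S (N - 2) = S N * S (-2) by rw [← c.S_add]; congr 1; ring]
    group
  have hYQ : ∀ i, Y i ∈ Q := c.Y_mem
  set q1 := Y 0 * (Y (-1))⁻¹ * (Y (M - 1) * (Y (M - 2))⁻¹) with hq1
  set q2 := Y N * (Y (N - 2))⁻¹ with hq2
  have hq1Q : q1 ∈ Q :=
    Q.mul_mem (Q.mul_mem (hYQ _) (Q.inv_mem (hYQ _))) (Q.mul_mem (hYQ _) (Q.inv_mem (hYQ _)))
  have hq2Q : q2 ∈ Q := Q.mul_mem (hYQ _) (Q.inv_mem (hYQ _))
  rw [hL, hR] at h
  have hd : S (N - 2 + N' + -(M - 2)) = q2⁻¹ * q1 := by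
    rw [c.S_add, c.S_neg]
    calc S (N - 2 + N') * (S (M - 2))⁻¹ = q2⁻¹ * (q2 * S (N - 2 + N')) * (S (M - 2))⁻¹ := by group
      _ = _ := by rw [← h]; group
  have hd0 : S (N - 2 + N' + -(M - 2)) = 1 := by
    have := c.Q_inf U.one_mem (a := φ (N - 2 + N' + -(M - 2))) (by
      rw [mul_one]
      show S (N - 2 + N' + -(M - 2)) ∈ Q
      rw [hd]; exact Q.mul_mem (Q.inv_mem hq2Q) hq1Q)
    rw [sLine, this.1, c.e_zero]
  have h12 : q2 = q1 := inv_mul_eq_one.mp (hd ▸ hd0)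
  haveI := c.comm
  letI : CommGroup Q := { (inferInstance : Group Q) with mul_comm := mul_comm' }
  let Z : ZMod p → Q := fun i => ⟨Y i, hYQ i⟩
  have eq6 : Z N * (Z (N - 2))⁻¹ = Z 0 * (Z (-1))⁻¹ * (Z (M - 1) * (Z (M - 2))⁻¹) := Subtype.ext h12
  have hshift : Z (-1) * Z (M - 2) * (Z (N - 1) * Z (N - 2))⁻¹ = Z 0 * Z (M - 1) * (Z N * Z (N - 1))⁻¹ := by
    rw [mul_inv_eq_iff_eq_mul] at eq6
    rw [eq6]
    apply Additive.ofMul.injective
    simp only [ofMul_mul, ofMul_inv]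
    abel
  have hδ : S (-1) * (Y 0 * Y (M - 1) * (Y N * Y (N - 1))⁻¹) * (S (-1))⁻¹ =
      Y 0 * Y (M - 1) * (Y N * Y (N - 1))⁻¹ := by
    have hs := congrArg Subtype.val hshift
    simp only [Subgroup.coe_mul, Subgroup.coe_inv, Z] at hs
    refine Eq.trans ?_ hs
    rw [hY]
    simp only
    rw [show (N - 1 : ZMod p) = -1 + N by ring, show (N - 2 : ZMod p) = -1 + (-1 + N) by ring,
      show (M - 2 : ZMod p) = -1 + (M - 1) by ring, c.S_add (-1) (-1 + N), c.S_add (-1) (M - 1),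
      c.S_add (-1) N, c.S_zero]
    group
  have hall : ∀ k : ℕ, S (k : ZMod p) * (Y 0 * Y (M - 1) * (Y N * Y (N - 1))⁻¹) * (S (k : ZMod p))⁻¹ =
      Y 0 * Y (M - 1) * (Y N * Y (N - 1))⁻¹ := by
    intro k
    induction k with
    | zero => rw [Nat.cast_zero, c.S_zero]; group
    | succ k ih =>
      nth_rw 1 [← hδ]
      refine Eq.trans ?_ ih
      rw [Nat.cast_succ, c.S_add, c.S_neg]
      group
  have h4 := c.Y_four 0 (M - 1) N (N - 1) (fun i => by
    have := hall i.val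
    rwa [ZMod.natCast_zmod_val] at this)
  -- `T N = S (N-1) T (M-N) S (1-M+N)`
  have hTN : T N = S (N - 1) * T (M - N) * S (1 - M + N) := by
    have h5 : (Y N)⁻¹ * Y 0 = Y (N - 1) * (Y (M - 1))⁻¹ := by
      calc (Y N)⁻¹ * Y 0 = (Y N)⁻¹ * (Y 0 * Y (M - 1)) * (Y (M - 1))⁻¹ := by group
        _ = _ := by rw [h4]; simp only [hY]; group
    rw [c.Q_comm (Q.inv_mem (hYQ N)) (hYQ 0)] at h5
    calc T N = Y 0 * (Y N)⁻¹ * S N := by
          show y * S N * y⁻¹ = _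
          rw [hY]; simp only [c.S_zero]; group
      _ = Y (N - 1) * (Y (M - 1))⁻¹ * S N := by rw [h5]
      _ = _ := by
          show _ = S (N - 1) * (y * S (M - N) * y⁻¹) * S (1 - M + N)
          rw [hY]
          simp only
          rw [show (M - N : ZMod p) = -(N - 1) + (M - 1) by ring, show (1 - M + N : ZMod p) = -(M - 1) + N by ring,
            c.S_add, c.S_add, c.S_neg, c.S_neg]
          group
  have hcase : M - N ≠ 0 := by
    intro he
    rw [he, c.T_zero, mul_one, ← c.S_add, show N - 1 + (1 - M + N) = N by linear_combination -he] at hTN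
    exact c.T_ne_S hN hTN
  obtain ⟨u, hu, hu1⟩ := c.exists_ne_one_U
  set u' := T N * u * T (-N) with hu'
  have hu'U : u' ∈ U := c.T_conj N hu
  have hconj : T (M - N) * (e (φ (1 - M + N) + -(ψ u * φ (1 - M + N))) * u) * T (-(M - N)) =
      e (-φ (N - 1) + ψ u' * φ (N - 1)) * u' := by
    have e1 : e (φ (1 - M + N) + -(ψ u * φ (1 - M + N))) * u = S (1 - M + N) * u * (S (1 - M + N))⁻¹ := by
      rw [c.e_add, ← c.S_neg]
      show _ = e (φ _) * u * e (φ (-_))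
      rw [map_neg, mul_assoc, mul_assoc (e (φ (1 - M + N))), c.e_comm hu, mul_neg]
    have e2 : e (-φ (N - 1) + ψ u' * φ (N - 1)) * u' = (S (N - 1))⁻¹ * u' * S (N - 1) := by
      rw [c.e_add, ← c.S_neg]
      show _ = e (φ (-_)) * u' * e (φ _)
      rw [map_neg, mul_assoc, mul_assoc (e (-φ (N - 1))), c.e_comm hu'U]
    rw [e1, e2, hu', c.T_neg, c.T_neg, hTN]
    group
  have hb := c.inter hcase hu hu'U hconj
  have hb0 : 1 - M + N = 0 := by
    apply (ZMod.castHom (dvd_refl p) F).injective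
    rw [map_zero]
    by_contra hne
    apply hu1
    refine c.eq_one_of_ψ hu (mul_right_cancel₀ hne ?_)
    linear_combination -hb
  rw [hb0, c.S_zero, mul_one, show M - N = 1 by linear_combination -hb0] at hTN
  by_contra hN1
  apply c.T_ne_S (sub_ne_zero.mpr hN1)
  rw [show N - 1 = N + -1 by ring, c.T_add, c.T_neg, hTN, show N + -1 = N - 1 by ring, mul_inv_cancel_right]

/-! ### The derived equation -/

theorem pull (i : ZMod p) {u : G} (hu : u ∈ U) : u * T i = T i * (T (-i) * u * T i) := by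
  rw [c.T_neg]; group

theorem push (i : ZMod p) {u : G} (hu : u ∈ U) : T i * u = (T i * u * T (-i)) * T i := by
  rw [c.T_neg]; group

theorem derived {u k v X : G} {M : ZMod p} (hu : u ∈ U) (hk : k ∈ U) (hv : v ∈ U) (hX : X ∈ U)
    (h1 : 1 + ψ k = 2 * ψ u) (huv : u * v = k)
    (h3 : 3 - ψ (T (-2 : ZMod p) * k * T 2) = φ M * ψ X) :
    T (-1 : ZMod p) * S M * T (-1 : ZMod p) =
      e ((ψ (T (-1 : ZMod p) * X * T 1))⁻¹ * (2 - ψ (T (-3 : ZMod p) * u * T 3))) *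
        ((T (-1 : ZMod p) * X * T 1)⁻¹ * (T (-3 : ZMod p) * u * T 3) *
          (T (-2 : ZMod p) * ((T (-1 : ZMod p) * v * T 1) *
            (T (1 : ZMod p) * (X⁻¹ * (T (-2 : ZMod p) * k * T 2)) * T (-1))⁻¹) * T 2)) *
        T (-2 : ZMod p) *
        e ((ψ ((T (-1 : ZMod p) * v * T 1) *
            (T (1 : ZMod p) * (X⁻¹ * (T (-2 : ZMod p) * k * T 2)) * T (-1))⁻¹))⁻¹ *
          (3 - 2 * ψ (T (-1 : ZMod p) * v * T 1))) := by
  set K := T (-2 : ZMod p) * k * T 2 with hKdef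
  set u1 := T (-3 : ZMod p) * u * T 3 with hu1def
  set v1 := T (-1 : ZMod p) * v * T 1 with hv1def
  set X' := T (-1 : ZMod p) * X * T 1 with hX'def
  set Y' := T (1 : ZMod p) * (X⁻¹ * K) * T (-1 : ZMod p) with hY'def
  have hK : K ∈ U := by simpa [neg_neg] using c.T_conj (-2) hk
  have hu1 : u1 ∈ U := by simpa [neg_neg] using c.T_conj (-3) hu
  have hv1 : v1 ∈ U := by simpa [neg_neg] using c.T_conj (-1) hv
  have hX' : X' ∈ U := by simpa [neg_neg] using c.T_conj (-1) hX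
  have hY' : Y' ∈ U := c.T_conj 1 (U.mul_mem (U.inv_mem hX) hK)
  set x2 := v1 * Y'⁻¹ with hx2def
  have hx2 : x2 ∈ U := U.mul_mem hv1 (U.inv_mem hY')
  have hx2' : T (-2 : ZMod p) * x2 * T 2 ∈ U := by simpa [neg_neg] using c.T_conj (-2) hx2
  clear_value x2
  clear_value Y' X' v1 u1 K
  have r : S 1 * k * S 1 = u * S 2 * v := by
    rw [sLine, sLine, map_one, map_ofNat, mul_assoc, c.e_comm hk, ← mul_assoc, ← c.e_add, mul_one, h1,
      c.e_comm hu, mul_assoc, huv, mul_comm (ψ u) 2]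
  have m32 : T (-3 : ZMod p) * S 2 * T 1 = S (-1) * T (-2 : ZMod p) * S 3 := by
    have := c.master 3 2
    rwa [show (3 : ZMod p) - 2 = 1 by ring, show (2 : ZMod p) - 3 = -1 by ring] at this
  have m31 : T (-3 : ZMod p) * S 1 * T 2 = S (-2) * T (-1 : ZMod p) * S 3 := by
    have := c.master 3 1
    rwa [show (3 : ZMod p) - 1 = 2 by ring, show (1 : ZMod p) - 3 = -2 by ring] at this
  have m21 : T (-2 : ZMod p) * S 1 * T 1 = S (-1) * T (-1 : ZMod p) * S 2 := by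
    have := c.master 2 1
    rwa [show (2 : ZMod p) - 1 = 1 by ring, show (1 : ZMod p) - 2 = -1 by ring] at this
  have hA : T (-3 : ZMod p) * (u * S 2 * v) * T 1 = u1 * (S (-1) * T (-2 : ZMod p) * S 3) * v1 := by
    rw [← m32, hu1def, hv1def, c.T_neg, c.T_neg]; group
  have hB : T (-3 : ZMod p) * (S 1 * k * S 1) * T 1 =
      S (-2) * T (-1 : ZMod p) * (S 3 * K * S (-1)) * T (-1 : ZMod p) * S 2 := by
    rw [show S (-2) * T (-1 : ZMod p) * (S 3 * K * S (-1)) * T (-1 : ZMod p) * S 2 =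
      (S (-2) * T (-1 : ZMod p) * S 3) * K * (S (-1) * T (-1 : ZMod p) * S 2) by group,
      ← m31, ← m21, hKdef, c.T_neg, c.T_neg]
    group
  have hmid : S 3 * K * S (-1) = X * S M * (X⁻¹ * K) := by
    rw [← mul_assoc, sLine, sLine, sLine, map_ofNat, map_neg, map_one, mul_assoc, c.e_comm hK, ← mul_assoc,
      ← c.e_add, c.e_conj hX]
    congr 2
    linear_combination h3
  have hXT : T (-1 : ZMod p) * (X * S M * (X⁻¹ * K)) * T (-1 : ZMod p) =
      X' * (T (-1 : ZMod p) * S M * T (-1 : ZMod p)) * Y' := by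
    rw [hX'def, hY'def, c.T_neg]; group
  have hEq : S (-2) * X' * (T (-1 : ZMod p) * S M * T (-1 : ZMod p)) * Y' * S 2 =
      u1 * S (-1) * T (-2 : ZMod p) * S 3 * v1 := by
    rw [show S (-2) * X' * (T (-1 : ZMod p) * S M * T (-1 : ZMod p)) * Y' * S 2 =
      S (-2) * (X' * (T (-1 : ZMod p) * S M * T (-1 : ZMod p)) * Y') * S 2 by group, ← hXT, ← hmid,
      show S (-2) * (T (-1 : ZMod p) * (S 3 * K * S (-1)) * T (-1 : ZMod p)) * S 2 =
        S (-2) * T (-1 : ZMod p) * (S 3 * K * S (-1)) * T (-1 : ZMod p) * S 2 by group,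
      ← hB, r, hA]
    group
  have hsolve : T (-1 : ZMod p) * S M * T (-1 : ZMod p) =
      X'⁻¹ * (S 2 * u1 * S (-1)) * T (-2 : ZMod p) * (S 3 * v1 * S (-2) * Y'⁻¹) := by
    calc T (-1 : ZMod p) * S M * T (-1 : ZMod p)
        = X'⁻¹ * (S (-2))⁻¹ * (S (-2) * X' * (T (-1 : ZMod p) * S M * T (-1 : ZMod p)) * Y' * S 2)
            * (S 2)⁻¹ * Y'⁻¹ := by group
      _ = _ := by rw [hEq, c.S_neg 2, inv_inv]; group
  have hL : X'⁻¹ * (S 2 * u1 * S (-1)) = e ((ψ X')⁻¹ * (2 - ψ u1)) * (X'⁻¹ * u1) := by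
    rw [sLine, sLine, map_ofNat, map_neg, map_one, mul_assoc (e (2 : F)), c.e_comm hu1, ← mul_assoc (e (2 : F)),
      ← c.e_add, ← mul_assoc, c.e_comm (U.inv_mem hX'), c.ψ_inv hX', mul_assoc]
    congr 2
    ring
  have hR : S 3 * v1 * S (-2) * Y'⁻¹ = x2 * e ((ψ x2)⁻¹ * (3 - 2 * ψ v1)) := by
    rw [c.e_comm hx2, mul_inv_cancel_left₀ (c.act x2 hx2).1, sLine, sLine, map_ofNat,
      map_neg, map_ofNat, mul_assoc (e (3 : F)), c.e_comm hv1, ← mul_assoc (e (3 : F)), ← c.e_add,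
      mul_assoc, hx2def]
    congr 2
    ring
  rw [hsolve, hL, hR, c.T_neg 2]
  group

theorem frob {a : F} (i : F) (hi : i ^ p = i) (b : F) (h : a = i * b) : a ^ p = i * b ^ p := by
  rw [h, mul_pow, hi]

theorem T_conj_pow (i : ZMod p) (u : G) : T i * u ^ p * T (-i) = (T i * u * T (-i)) ^ p := by
  rw [c.T_neg, conj_pow]

/-- The key step. -/
theorem step {u : G} (hu : u ∈ U) (hE : InE p q (ψ u)⁻¹) :
    InE p q (ψ (T (-3 : ZMod p) * u * T 3)) := by
  have hn0 : nn p q ≠ 0 := nn_pos.ne'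
  have hψu := (c.act u hu).1
  obtain ⟨w, hw, hw'⟩ := c.exists_ψ hE.2
  set k := u * w with hk'
  have hk : k ∈ U := U.mul_mem hu hw
  have h1 : 1 + ψ k = 2 * ψ u := by
    rw [hk', c.mulψ u hu w hw, hw']
    field_simp
    ring
  have hK : T (-2 : ZMod p) * k * T 2 ∈ U := by simpa [neg_neg] using c.T_conj (-2) hk
  have h2' : (2 : F) ≠ 0 := Ring.two_ne_zero (by rw [ringChar.eq F p]; exact c.two)
  have hne : 3 - ψ (T (-2 : ZMod p) * k * T 2) ≠ 0 := by
    intro h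
    have h3 : ψ (T (-2 : ZMod p) * k * T 2) = 3 := (sub_eq_zero.mp h).symm
    have h4 := eq_one_of_prime_field c.cop (c.act _ hK).1 (by rw [h3]; exact_mod_cast natCast_pow c.card 3)
      (c.ψ_normOne hK)
    rw [h3] at h4
    exact h2' (by linear_combination h4)
  obtain ⟨i, b, hi, hi0, hb, hib⟩ := exists_decomp c.card c.two c.cop hne
  obtain ⟨m, -, rfl⟩ := exists_natCast c.card hi
  obtain ⟨X, hX, rfl⟩ := c.exists_ψ hb
  set M : ZMod p := (m : ZMod p)
  have hM : (φ M : F) = m := map_natCast _ _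
  rw [← hM] at hib
  have D := c.derived hu hk hw hX h1 rfl hib
  have h1p : 1 + ψ (k ^ p) = 2 * ψ (u ^ p) := by
    rw [c.ψ_pow hk, c.ψ_pow hu]
    have := congrArg (frobenius F p) h1
    simpa [frobenius_def, map_add, map_mul, map_ofNat] using this
  have hKp : T (-2 : ZMod p) * k ^ p * T 2 = (T (-2 : ZMod p) * k * T 2) ^ p := by
    have := c.T_conj_pow (-2) k
    rwa [neg_neg] at this
  have h3p : 3 - ψ (T (-2 : ZMod p) * k ^ p * T 2) = φ M * ψ (X ^ p) := by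
    rw [hKp, c.ψ_pow hK, c.ψ_pow hX]
    have := congrArg (frobenius F p) hib
    rw [map_sub, map_mul, map_ofNat, frobenius_def, frobenius_def, frobenius_def, c.φ_pow] at this
    exact this
  have hcomm : Commute u w := c.U_comm hu hw
  have Dp := c.derived (U.pow_mem hu p) (U.pow_mem hk p) (U.pow_mem hw p) (U.pow_mem hX p) h1p
    (by rw [hk', hcomm.mul_pow]) h3p
  set K := T (-2 : ZMod p) * k * T 2
  set u1 := T (-3 : ZMod p) * u * T 3 with hu1def
  set v1 := T (-1 : ZMod p) * w * T 1 with hv1def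
  set X' := T (-1 : ZMod p) * X * T 1 with hX'def
  set Y' := T (1 : ZMod p) * (X⁻¹ * K) * T (-1 : ZMod p) with hY'def
  have hu1 : u1 ∈ U := by simpa [neg_neg] using c.T_conj (-3) hu
  have hv1 : v1 ∈ U := by simpa [neg_neg] using c.T_conj (-1) hw
  have hX' : X' ∈ U := by simpa [neg_neg] using c.T_conj (-1) hX
  have hY' : Y' ∈ U := c.T_conj 1 (U.mul_mem (U.inv_mem hX) hK)
  have hu1p : T (-3 : ZMod p) * u ^ p * T 3 = u1 ^ p := by
    have := c.T_conj_pow (-3) u; rwa [neg_neg] at this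
  have hv1p : T (-1 : ZMod p) * w ^ p * T 1 = v1 ^ p := by
    have := c.T_conj_pow (-1) w; rwa [neg_neg] at this
  have hX'p : T (-1 : ZMod p) * X ^ p * T 1 = X' ^ p := by
    have := c.T_conj_pow (-1) X; rwa [neg_neg] at this
  have hY'p : T (1 : ZMod p) * ((X ^ p)⁻¹ * (T (-2 : ZMod p) * k ^ p * T 2)) * T (-1 : ZMod p) = Y' ^ p := by
    have hc : Commute X⁻¹ K := c.U_comm (U.inv_mem hX) hK
    rw [hKp, ← inv_pow, ← hc.mul_pow]
    exact c.T_conj_pow 1 (X⁻¹ * K)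
  rw [hu1p, hv1p, hX'p, hY'p] at Dp
  set x2 := v1 * Y'⁻¹ with hx2def
  have hx2 : x2 ∈ U := U.mul_mem hv1 (U.inv_mem hY')
  have hcv : Commute v1 Y'⁻¹ := c.U_comm hv1 (U.inv_mem hY')
  have hx2p : v1 ^ p * (Y' ^ p)⁻¹ = x2 ^ p := by rw [← inv_pow, hx2def, hcv.mul_pow]
  set x2' := T (-2 : ZMod p) * x2 * T 2 with hx2'def
  have hx2' : x2' ∈ U := by simpa [neg_neg] using c.T_conj (-2) hx2
  have hx2'p : T (-2 : ZMod p) * x2 ^ p * T 2 = x2' ^ p := by
    have := c.T_conj_pow (-2) x2; rwa [neg_neg] at this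
  rw [hx2p, hx2'p] at Dp
  set X3 := X'⁻¹ * u1 * x2' with hX3def
  have hX3 : X3 ∈ U := U.mul_mem (U.mul_mem (U.inv_mem hX') hu1) hx2'
  have hX3p : (X' ^ p)⁻¹ * u1 ^ p * x2' ^ p ∈ U :=
    U.mul_mem (U.mul_mem (U.inv_mem (U.pow_mem hX' p)) (U.pow_mem hu1 p)) (U.pow_mem hx2' p)
  set z1 := (ψ X')⁻¹ * (2 - ψ u1) with hz1
  set z2 := (ψ x2)⁻¹ * (3 - 2 * ψ v1) with hz2
  have ez1 : (ψ (X' ^ p))⁻¹ * (2 - ψ (u1 ^ p)) = z1 ^ p := by
    rw [hz1, mul_pow, inv_pow, c.ψ_pow hX', c.ψ_pow hu1, ← frobenius_def p (2 - ψ u1), map_sub, map_ofNat,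
      frobenius_def]
  have ez2 : (ψ (x2 ^ p))⁻¹ * (3 - 2 * ψ (v1 ^ p)) = z2 ^ p := by
    rw [hz2, mul_pow, inv_pow, c.ψ_pow hx2, c.ψ_pow hv1, ← frobenius_def p (3 - 2 * ψ v1), map_sub,
      map_mul, map_ofNat, map_ofNat, frobenius_def]
  rw [ez1, ez2] at Dp
  set Z3 := (X' ^ p)⁻¹ * u1 ^ p * x2' ^ p
  rw [D] at Dp
  -- rationality
  have hZ : X3⁻¹ * e (-z1 + z1 ^ p) * Z3 =
      e ((ψ X3)⁻¹ * (-z1 + z1 ^ p)) * (X3⁻¹ * Z3) := by
    rw [c.e_comm (U.inv_mem hX3), c.ψ_inv hX3, mul_assoc]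
  have hconj : T (-2 : ZMod p) * (e (z2 + -(z2 ^ p)) * 1) * T (-(-2 : ZMod p)) =
      e ((ψ X3)⁻¹ * (-z1 + z1 ^ p)) * (X3⁻¹ * Z3) := by
    rw [← hZ, c.e_add, c.e_add, c.e_neg, c.e_neg, c.T_neg (-2)]
    calc T (-2 : ZMod p) * (e z2 * (e (z2 ^ p))⁻¹ * 1) * (T (-2 : ZMod p))⁻¹
        = X3⁻¹ * (e z1)⁻¹ * (e z1 * X3 * T (-2 : ZMod p) * e z2) * (e (z2 ^ p))⁻¹ * (T (-2 : ZMod p))⁻¹ := by
          group
      _ = _ := by rw [Dp]; group
  have hne2 : (-2 : ZMod p) ≠ 0 := by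
    intro h
    apply h2'
    have := congrArg (φ) (neg_eq_zero.mp h)
    rwa [map_ofNat, map_zero] at this
  have hXZ : X3⁻¹ * Z3 ∈ U := U.mul_mem (U.inv_mem hX3) hX3p
  have hz2r := c.inter hne2 U.one_mem hXZ hconj
  rw [hz2r, c.e_zero, one_mul, mul_one, c.T_neg (-2), mul_inv_cancel] at hconj
  have hconj' : e (0 : F) * 1 = e ((ψ X3)⁻¹ * (-z1 + z1 ^ p)) * (X3⁻¹ * Z3) := by
    rw [c.e_zero, one_mul]; exact hconj
  have hz1r := (c.eU_unique U.one_mem hXZ hconj').1.symm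
  have hψX3 := inv_ne_zero (c.act X3 hX3).1
  have hz1p : z1 ^ p = z1 := by linear_combination (mul_eq_zero.mp hz1r).resolve_left hψX3
  have hz2p : z2 ^ p = z2 := by linear_combination -hz2r
  obtain ⟨n, -, hn⟩ := exists_natCast c.card hz1p
  obtain ⟨n', -, hn'⟩ := exists_natCast c.card hz2p
  have eS1 : e z1 = S (n : ZMod p) := by rw [sLine, map_natCast, hn]
  have eS2 : e z2 = S (n' : ZMod p) := by rw [sLine, map_natCast, hn']
  rw [eS1, eS2] at D
  set N : ZMod p := (n : ZMod p) with hN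
  set N' : ZMod p := (n' : ZMod p)
  have hX31 : X3 = 1 := by
    apply c.U_inf_norm hX3
    have e3 : X3 = (S N)⁻¹ * (T (-1 : ZMod p) * S M * T (-1 : ZMod p)) * (S N')⁻¹ * (T (-2 : ZMod p))⁻¹ := by
      rw [D]; group
    rw [e3]
    exact mul_mem (mul_mem (mul_mem (inv_mem (c.S_norm _))
      (mul_mem (mul_mem (c.T_norm _) (c.S_norm _)) (c.T_norm _))) (inv_mem (c.S_norm _)))
      (inv_mem (c.T_norm _))
  rw [hX31, mul_one] at D
  have hN1 := c.rigid M N N' (fun h => ?_) D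
  · have hz11 : z1 = 1 := by
      rw [← hn, ← map_natCast (φ) n, ← hN, hN1, map_one]
    rw [hz1, inv_mul_eq_one₀ (c.act X' hX').1] at hz11
    exact ⟨c.ψ_normOne hu1, by rw [← hz11]; exact c.ψ_normOne hX'⟩
  · have hz10 : z1 = 0 := by rw [← hn, ← map_natCast (φ) n, ← hN, h, map_zero]
    rw [hz1, mul_eq_zero, inv_eq_zero] at hz10
    have h6 : ψ u1 = 2 := (sub_eq_zero.mp (hz10.resolve_left (c.act X' hX').1)).symm
    have h7 := eq_one_of_prime_field c.cop (c.act u1 hu1).1 (by rw [h6]; exact_mod_cast natCast_pow c.card 2)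
      (c.ψ_normOne hu1)
    rw [h6] at h7
    exact one_ne_zero (by linear_combination h7 : (1 : F) = 0)

/-- The configuration is impossible. -/
theorem impossible : False := by
  have hinv : ∀ a : F, InE p q a → InE p q a⁻¹ := by
    intro a ha
    have ha0 : a ≠ 0 := fun h => by
      have := ha.1; rw [h, zero_pow nn_pos.ne'] at this; exact zero_ne_one this
    obtain ⟨u, hu, hu'⟩ := c.exists_ψ (a := a⁻¹) (by rw [inv_pow, ha.1, inv_one])
    have key : ∀ k : ℕ, (T ((-3) * k : ZMod p) * u ^ ((-1 : ℤ) ^ k) * T (3 * k : ZMod p)) ∈ U ∧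
        InE p q (ψ (T ((-3) * k : ZMod p) * u ^ ((-1 : ℤ) ^ k) * T (3 * k : ZMod p)))⁻¹ := by
      intro k
      induction k with
      | zero =>
        simp only [Nat.cast_zero, mul_zero, c.T_zero, pow_zero, zpow_one, one_mul, mul_one]
        exact ⟨hu, by rw [hu', inv_inv]; exact ha⟩
      | succ k ih =>
        obtain ⟨hk, hk'⟩ := ih
        set v := T ((-3) * k : ZMod p) * u ^ ((-1 : ℤ) ^ k) * T (3 * k : ZMod p) with hv
        have h2 := c.step hk hk'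
        have hv' : T (-3 : ZMod p) * v * T 3 ∈ U := by simpa [neg_neg] using c.T_conj (-3) hk
        have e1 : T ((-3) * ((k + 1 : ℕ) : ZMod p)) * u ^ ((-1 : ℤ) ^ (k + 1)) * T (3 * ((k + 1 : ℕ) : ZMod p)) =
            (T (-3 : ZMod p) * v * T 3)⁻¹ := by
          rw [hv, pow_succ, mul_neg_one, zpow_neg,
            show (-3 : ZMod p) * ((k + 1 : ℕ) : ZMod p) = -(3 * k + 3) by push_cast; ring,
            show 3 * ((k + 1 : ℕ) : ZMod p) = 3 * k + 3 by push_cast; ring,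
            show (-3 : ZMod p) * k = -(3 * k) by ring, c.T_neg, c.T_neg, c.T_neg, c.T_add]
          group
        rw [e1]
        exact ⟨U.inv_mem hv', by rw [c.ψ_inv hv', inv_inv]; exact h2⟩
    obtain ⟨-, h⟩ := key p
    rw [(hp.out.odd_of_ne_two c.two).neg_one_pow, zpow_neg_one, ZMod.natCast_self, mul_zero,
      mul_zero, c.T_zero, one_mul, mul_one, c.ψ_inv hu, inv_inv, hu'] at h
    exact h
  obtain ⟨a, ha, ha1⟩ := exists_ne_one c.card c.two c.cop
  exact absurd (le_of_inv_closed c.card hinv ha ha1) (not_le.mpr c.lt)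

end Cfg

end CfsgLib.FieldConfig
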