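import Cfsg.Agent.Lib.OddOrder.NormPair

/-!
# A field from a fixed-point-free commutative group on an elementary abelian group

If `A` is commutative, acts fixed point freely on the elementary abelian group `P` of order `p ^ q`,
`q` prime, and `|A| > 1` is prime to `p - 1`, then `P` is the additive group of a field with
`p ^ q` elements on which `A` acts by multiplications.
-/

set_option autoImplicit false
set_option linter.style.haveILetI false
set_option linter.unusedSectionVars false

namespace CfsgLib.FieldFromFpf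

open scoped IsMulCommutative

universe u

variable {G : Type u} [Group G] [Finite G] {p q : ℕ} [hp : Fact p.Prime] [hq : Fact q.Prime]
variable (A P : Subgroup G) [IsMulCommutative P]

/-- A free action gives divisibility of the number of points by the order of the group. -/
theorem card_dvd_of_free {H X : Type*} [Group H] [MulAction H X] [Finite X] [Finite H]
    (h : ∀ (a : H) (x : X), a • x = x → a = 1) : Nat.card H ∣ Nat.card X := by
  classical
  rw [Nat.card_congr (MulAction.selfEquivSigmaOrbitsQuotientStabilizer H X)]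
  haveI := Fintype.ofFinite (Quotient (MulAction.orbitRel H X))
  rw [Nat.card_sigma]
  refine Finset.dvd_sum fun ω _ => ?_
  have hs : MulAction.stabilizer H ω.out = ⊥ := eq_bot_iff.mpr fun a ha => Subgroup.mem_bot.mpr (h a _ ha)
  rw [hs, ← Subgroup.index_eq_card, Subgroup.index_bot]

section

variable (hn : A ≤ Subgroup.normalizer (P : Set G))
include hn

theorem conj_mem {a x : G} (ha : a ∈ A) (hx : x ∈ P) : a * x * a⁻¹ ∈ P :=
  (Subgroup.mem_normalizer_iff.mp (hn ha) x).mp hx

/-- Conjugation by `A` as endomorphisms of `P`. -/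
def conjHom : A →* AddMonoid.End (Additive P) where
  toFun a :=
    { toFun := fun x => Additive.ofMul ⟨a * (x.toMul : G) * (a : G)⁻¹, conj_mem A P hn a.2 x.toMul.2⟩
      map_zero' := by
        apply Additive.toMul.injective; apply Subtype.ext
        show (a : G) * 1 * (a : G)⁻¹ = 1
        group
      map_add' := fun x z => by
        apply Additive.toMul.injective; apply Subtype.ext
        show (a : G) * ((x.toMul : G) * (z.toMul : G)) * (a : G)⁻¹ = a * (x.toMul : G) * (a : G)⁻¹ * (a * (z.toMul : G) * (a : G)⁻¹)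
        group }
  map_one' := by
    refine AddMonoidHom.ext fun x => ?_
    apply Additive.toMul.injective; apply Subtype.ext
    show (1 : G) * (x.toMul : G) * (1 : G)⁻¹ = (x.toMul : G)
    group
  map_mul' a b := by
    refine AddMonoidHom.ext fun x => ?_
    apply Additive.toMul.injective; apply Subtype.ext
    show (a * b : G) * (x.toMul : G) * (a * b : G)⁻¹ = a * (b * (x.toMul : G) * (b : G)⁻¹) * (a : G)⁻¹
    group

theorem conjHom_coe (a : A) (x : Additive P) :
    ((conjHom A P hn a x).toMul : G) = (a : G) * (x.toMul : G) * (a : G)⁻¹ := rfl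

variable (hfix : ∀ a ∈ A, a ≠ 1 → ∀ x ∈ P, a * x * a⁻¹ = x → x = 1)
variable (hP : Nat.card P = p ^ q) (hA : (Nat.card A).Coprime (p - 1)) (hA1 : Nat.card A ≠ 1)
variable (hAq : Nat.card A ∣ p ^ q - 1)
include hfix hP hA hA1 hAq

theorem invariant_eq (W : AddSubgroup (Additive P))
    (hW : ∀ (a : A), ∀ x ∈ W, conjHom A P hn a x ∈ W) : W = ⊥ ∨ W = ⊤ := by
  have hPA : Nat.card (Additive P) = p ^ q := by rw [← hP]; exact Nat.card_congr Additive.toMul
  obtain ⟨i, hi, hWc⟩ := (Nat.dvd_prime_pow hp.out).mp (hPA ▸ AddSubgroup.card_addSubgroup_dvd_card W)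
  letI : MulAction A {w : Additive P // w ∈ W ∧ w ≠ 0} :=
    { smul := fun a w => ⟨conjHom A P hn a w.1, hW a _ w.2.1, fun h => w.2.2 (by
        have h1 : conjHom A P hn a⁻¹ (conjHom A P hn a w.1) = 0 := by rw [h, map_zero]
        have h2 : conjHom A P hn (a⁻¹ * a) w.1 = 0 := by rw [map_mul]; exact h1
        rw [inv_mul_cancel, map_one] at h2
        exact h2)⟩
      one_smul := fun w => Subtype.ext (by
        show conjHom A P hn 1 w.1 = w.1
        rw [map_one]; rfl)
      mul_smul := fun a b w => Subtype.ext (by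
        show conjHom A P hn (a * b) w.1 = conjHom A P hn a (conjHom A P hn b w.1)
        rw [map_mul]; rfl) }
  have hd : Nat.card A ∣ Nat.card {w : Additive P // w ∈ W ∧ w ≠ 0} := by
    refine card_dvd_of_free fun a w h => ?_
    by_contra ha
    have h1 : conjHom A P hn a w.1 = w.1 := congrArg Subtype.val h
    have h2 := hfix a a.2 (fun h3 => ha (Subtype.ext h3)) _ w.1.toMul.2
      (by rw [← conjHom_coe A P hn a w.1, h1])
    exact w.2.2 (Additive.toMul.injective (Subtype.ext h2))
  have hc : Nat.card {w : Additive P // w ∈ W ∧ w ≠ 0} = p ^ i - 1 := by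
    rw [← hWc]
    change Nat.card ↥((W : Set (Additive P)) \ {0}) = _
    rw [Nat.card_coe_set_eq, Set.ncard_sdiff_singleton_of_mem W.zero_mem, ← Nat.card_coe_set_eq]
    rfl
  rw [hc] at hd
  rcases eq_or_lt_of_le hi with rfl | hlt
  · exact Or.inr (AddSubgroup.eq_top_of_card_eq W (hWc.trans hPA.symm))
  rcases Nat.eq_zero_or_pos i with rfl | h0
  · exact Or.inl (AddSubgroup.card_eq_one.mp (hWc.trans (pow_zero p)))
  exfalso
  have hg := Nat.dvd_gcd hd hAq
  rw [Nat.pow_sub_one_gcd_pow_sub_one,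
    show i.gcd q = 1 from ((hq.out.coprime_iff_not_dvd).mpr (fun h => by
      have := Nat.le_of_dvd h0 h; omega)).symm, pow_one] at hg
  exact hA1 (Nat.eq_one_of_dvd_coprimes hA dvd_rfl hg)

variable [IsMulCommutative A] (hexp : ∀ x ∈ P, x ^ p = 1)
include hexp

/-- The field structure on `P`. -/
theorem exists_field {P₀ : Subgroup G} (hP₀ : P₀ ≤ P) (hP₀c : Nat.card P₀ = p) :
    ∃ (F : Type u) (_ : Field F) (_ : Fintype F) (f ψ : G → F),
      Fintype.card F = p ^ q ∧ Set.BijOn f (P : Set G) Set.univ ∧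
      (∀ x ∈ P, ∀ z ∈ P, f (x * z) = f x + f z) ∧
      (∀ a ∈ A, ψ a ≠ 0 ∧ ∀ x ∈ P, f (a * x * a⁻¹) = ψ a * f x) ∧
      (∀ a ∈ A, ∀ b ∈ A, ψ (a * b) = ψ a * ψ b) ∧ Set.InjOn ψ (A : Set G) ∧
      ∀ x ∈ P, f x ^ p = f x → x ∈ P₀ := by
  classical
  set ρ := conjHom A P hn with hρ
  let D : Subring (AddMonoid.End (Additive P)) := Subring.closure (Set.range ρ)
  have hcomm : IsMulCommutative D := Subring.isMulCommutative_closure (by
    rintro _ ⟨a, rfl⟩ _ ⟨b, rfl⟩
    rw [← map_mul, ← map_mul, mul_comm' a b])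
  have hρD : ∀ a, ρ a ∈ D := fun a => Subring.subset_closure ⟨a, rfl⟩
  have hDcomm : ∀ (r : D) (a : A) (x : Additive P), (r : AddMonoid.End _) (ρ a x) = ρ a ((r : AddMonoid.End _) x) := by
    intro r a x
    exact congrArg (fun s : D => (s : AddMonoid.End (Additive P)) x) (hcomm.is_comm.comm r ⟨ρ a, hρD a⟩)
  have hker : ∀ r : D, r ≠ 0 → Function.Injective (r : AddMonoid.End (Additive P)) := by
    intro r hr
    let W : AddSubgroup (Additive P) := AddMonoidHom.ker (r : AddMonoid.End (Additive P))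
    rcases invariant_eq A P hn hfix hP hA hA1 hAq W (fun a x hx => by
      show (r : AddMonoid.End _) (ρ a x) = 0
      have hx' : (r : AddMonoid.End (Additive P)) x = 0 := hx
      rw [hDcomm, hx', map_zero]) with h | h
    · exact (AddMonoidHom.ker_eq_bot_iff _).mp h
    · exact absurd (Subtype.ext (AddMonoidHom.ext fun x =>
        AddMonoidHom.mem_ker.mp (h ▸ AddSubgroup.mem_top x : x ∈ W))) hr
  have hne : P₀ ≠ ⊥ := fun h => hp.out.ne_one (by rw [← hP₀c, h, Subgroup.card_bot])
  obtain ⟨x₀, hx₀, hx₀1⟩ := P₀.bot_or_exists_ne_one.resolve_left hne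
  let e₀ : Additive P := Additive.ofMul ⟨x₀, hP₀ hx₀⟩
  have he₀ : e₀ ≠ 0 := fun h => hx₀1 (congrArg Subtype.val (congrArg Additive.toMul h))
  haveI : Nontrivial D := ⟨⟨1, 0, fun h => he₀ (by
    have := congrArg (fun s : D => (s : AddMonoid.End (Additive P)) e₀) h
    simpa using this)⟩⟩
  haveI : NoZeroDivisors D := ⟨fun {a b} hab => by
    by_contra h
    push Not at h
    exact h.2 (Subtype.ext (AddMonoidHom.ext fun x => hker a h.1 (by
      show ((a * b : D) : AddMonoid.End (Additive P)) x = (a : AddMonoid.End (Additive P)) 0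
      rw [hab, map_zero]
      rfl)))⟩
  haveI : Finite (AddMonoid.End (Additive P)) := DFunLike.finite _
  haveI : IsDomain D := NoZeroDivisors.to_isDomain _
  letI : Field D := (Finite.isDomain_to_isField D).toField
  letI : Fintype D := Fintype.ofFinite _
  let ev : D →+ Additive P :=
    { toFun := fun r => (r : AddMonoid.End (Additive P)) e₀
      map_zero' := rfl
      map_add' := fun r s => rfl }
  have hinj : Function.Injective ev := (injective_iff_map_eq_zero ev).mpr fun r hr => by
    by_contra h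
    exact he₀ (hker r h (hr.trans (map_zero _).symm))
  have hsurj : Function.Surjective ev := by
    rcases invariant_eq A P hn hfix hP hA hA1 hAq ev.range (by
      rintro a _ ⟨r, rfl⟩
      exact ⟨⟨ρ a, hρD a⟩ * r, rfl⟩) with h | h
    · exact absurd ((AddSubgroup.mem_bot).mp (h ▸ (⟨1, rfl⟩ : e₀ ∈ ev.range))) he₀
    · exact AddMonoidHom.range_eq_top.mp h
  let E : D ≃+ Additive P := AddEquiv.ofBijective ev ⟨hinj, hsurj⟩
  let f : G → D := fun x => if hx : x ∈ P then E.symm (Additive.ofMul ⟨x, hx⟩) else 0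
  let ψ : G → D := fun a => if ha : a ∈ A then ⟨ρ ⟨a, ha⟩, hρD _⟩ else 0
  have hf : ∀ x (hx : x ∈ P), f x = E.symm (Additive.ofMul ⟨x, hx⟩) := fun x hx => dif_pos hx
  have hψ : ∀ a (ha : a ∈ A), ψ a = ⟨ρ ⟨a, ha⟩, hρD _⟩ := fun a ha => dif_pos ha
  have hcard : Fintype.card D = p ^ q := by
    rw [← Nat.card_eq_fintype_card, Nat.card_congr E.toEquiv, ← hP]
    exact Nat.card_congr Additive.toMul
  refine ⟨D, inferInstance, inferInstance, f, ψ, hcard, ⟨fun x _ => Set.mem_univ _, ?_, ?_⟩, ?_, ?_, ?_, ?_, ?_⟩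
  · intro x hx z hz h
    rw [hf x hx, hf z hz] at h
    exact congrArg Subtype.val (Additive.ofMul.injective (E.symm.injective h))
  · intro r _
    refine ⟨((E r).toMul : G), (E r).toMul.2, ?_⟩
    rw [hf _ (E r).toMul.2]
    exact E.symm_apply_apply r
  · intro x hx z hz
    rw [hf _ (P.mul_mem hx hz), hf x hx, hf z hz, ← map_add]
    rfl
  · intro a ha
    refine ⟨fun h => ?_, fun x hx => ?_⟩
    · rw [hψ a ha] at h
      apply he₀
      have h1 : ρ ⟨a, ha⟩ = 0 := congrArg Subtype.val h
      have h2 : ρ (⟨a, ha⟩⁻¹ * ⟨a, ha⟩) e₀ = 0 := by rw [map_mul, h1, mul_zero]; rfl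
      rw [inv_mul_cancel, map_one] at h2
      exact h2
    · rw [hf _ (conj_mem A P hn ha hx), hf x hx, hψ a ha]
      apply E.injective
      rw [AddEquiv.apply_symm_apply]
      show _ = ρ ⟨a, ha⟩ (E (E.symm (Additive.ofMul ⟨x, hx⟩)))
      rw [AddEquiv.apply_symm_apply]
      rfl
  · intro a ha b hb
    rw [hψ _ (A.mul_mem ha hb), hψ a ha, hψ b hb]
    exact Subtype.ext (map_mul ρ ⟨a, ha⟩ ⟨b, hb⟩)
  · intro a ha b hb h
    rw [hψ a ha, hψ b hb] at h
    have h1 : ρ ⟨a, ha⟩ = ρ ⟨b, hb⟩ := congrArg Subtype.val h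
    by_contra hab
    have h2 : ρ (⟨b, hb⟩⁻¹ * ⟨a, ha⟩) e₀ = e₀ := by
      rw [map_mul, h1, ← map_mul, inv_mul_cancel, map_one]; rfl
    exact hx₀1 (hfix _ ((⟨b, hb⟩ : A)⁻¹ * ⟨a, ha⟩).2
      (fun h3 => hab (inv_mul_eq_one.mp h3).symm) x₀ (hP₀ hx₀)
      (congrArg (fun v : Additive P => (v.toMul : G)) h2))
  · intro x hx h
    obtain ⟨k, -, hk⟩ := CfsgLib.NormPair.exists_natCast hcard h
    have h1 : E (k : D) = k • e₀ := by
      rw [← nsmul_one k, map_nsmul]
      rfl
    rw [hk, hf x hx, AddEquiv.apply_symm_apply] at h1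
    have h2 : x = x₀ ^ k := congrArg (fun v : Additive P => (v.toMul : G)) h1
    rw [h2]
    exact P₀.pow_mem hx₀ k

end

end CfsgLib.FieldFromFpf
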