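import Mathlib

/-!
# The set of norm-one elements `a` with `2 - a` of norm one

`F` is a field with `p ^ q` elements and `E = {a | N a = 1 ∧ N (2 - a) = 1}`, where
`N x = x ^ ((p ^ q - 1) / (p - 1))`.  If `E` is closed under inversion and has two elements then
`p ≤ q`; and `E` always has two elements.
-/

set_option autoImplicit false
set_option linter.style.haveILetI false

namespace CfsgLib.NormPair

open Polynomial

variable {F : Type*} [Field F] [Fintype F]

/-- The exponent of the norm map. -/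
def nn (p q : ℕ) : ℕ := (p ^ q - 1) / (p - 1)

/-- Membership in the pair set. -/
def InE (p q : ℕ) (a : F) : Prop := a ^ nn p q = 1 ∧ (2 - a) ^ nn p q = 1

variable {p q : ℕ} [hp : Fact p.Prime] [hq : Fact q.Prime]

theorem nn_eq_sum : nn p q = ∑ j ∈ Finset.range q, p ^ j :=
  (Nat.geomSum_eq hp.out.two_le q).symm

theorem nn_mul : nn p q * (p - 1) = p ^ q - 1 :=
  Nat.div_mul_cancel (Nat.sub_one_dvd_pow_sub_one p q)

theorem nn_pos : 0 < nn p q := by
  rw [nn_eq_sum]
  exact Finset.sum_pos (fun j _ => pow_pos hp.out.pos j) ⟨0, Finset.mem_range.mpr hq.out.pos⟩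

theorem q_ne_two (hp2 : p ≠ 2) (hA : (nn p q).Coprime (p - 1)) : q ≠ 2 := by
  rintro rfl
  have h2 : p % 2 = 1 := hp.out.eq_two_or_odd.resolve_left hp2
  have h : 2 ∣ Nat.gcd (nn p 2) (p - 1) := Nat.dvd_gcd (by
    rw [nn_eq_sum]; simp [Finset.sum_range_succ]; omega) (by omega)
  rw [hA] at h
  norm_num at h

theorem eq_one_of_prime_field (hA : (nn p q).Coprime (p - 1)) {x : F} (hx0 : x ≠ 0)
    (hx : x ^ p = x) (hn : x ^ nn p q = 1) : x = 1 := by
  have h1 : x ^ (p - 1) = 1 := by
    apply mul_right_cancel₀ hx0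
    rw [← pow_succ, Nat.sub_add_cancel hp.out.one_le, hx, one_mul]
  have h := pow_gcd_eq_one.mpr ⟨hn, h1⟩
  rwa [hA, pow_one] at h

section Field

variable (hF : Fintype.card F = p ^ q)
include hF

theorem charP : CharP F p := charP_of_card_eq_prime_pow hF

theorem exists_natCast {x : F} (hx : x ^ p = x) : ∃ k : ℕ, k < p ∧ (k : F) = x := by
  classical
  haveI := charP hF
  by_contra hne
  push Not at hne
  have hsub : insert x ((Finset.range p).image (fun k : ℕ => (k : F))) ⊆
      ((X ^ p - X : F[X]).roots).toFinset := by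
    intro z hz
    rw [Multiset.mem_toFinset, mem_roots (FiniteField.X_pow_card_sub_X_ne_zero F hp.out.one_lt)]
    rcases Finset.mem_insert.mp hz with rfl | hz
    · simp [hx]
    · obtain ⟨k, -, rfl⟩ := Finset.mem_image.mp hz
      have h : ((k : ZMod p) : ZMod p) ^ p = k := ZMod.pow_card _
      have := congrArg (ZMod.castHom dvd_rfl F) h
      simp only [map_pow, map_natCast] at this
      simp [this]
  have h1 := (Finset.card_le_card hsub).trans (Multiset.toFinset_card_le _)
  have h2 := (card_roots' (X ^ p - X : F[X])).trans_eq (FiniteField.X_pow_card_sub_X_natDegree_eq F hp.out.one_lt)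
  rw [Finset.card_insert_of_notMem (fun h => by
      obtain ⟨k, hk, hkx⟩ := Finset.mem_image.mp h
      exact hne k (Finset.mem_range.mp hk) hkx),
    Finset.card_image_of_injOn (fun i hi j hj h => by
      simpa using CharP.natCast_injOn_Iio F p (Finset.mem_range.mp hi) (Finset.mem_range.mp hj) h),
    Finset.card_range] at h1
  omega

theorem natCast_pow (k : ℕ) : (k : F) ^ p = k := by
  haveI := charP hF
  have h := congrArg (ZMod.castHom dvd_rfl F) (ZMod.pow_card (k : ZMod p))
  simpa only [map_pow, map_natCast] using h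

theorem pow_nn_pow {x : F} (hx0 : x ≠ 0) : (x ^ nn p q) ^ p = x ^ nn p q := by
  have h : (x ^ nn p q) ^ (p - 1) = 1 := by
    rw [← pow_mul, nn_mul, ← hF]
    exact FiniteField.pow_card_sub_one_eq_one x hx0
  calc (x ^ nn p q) ^ p = (x ^ nn p q) ^ (p - 1) * x ^ nn p q := by
        rw [← pow_succ, Nat.sub_add_cancel hp.out.one_le]
    _ = _ := by rw [h, one_mul]

/-- `F* = F_p* × (norm one elements)`. -/
theorem exists_decomp (hp2 : p ≠ 2) (hA : (nn p q).Coprime (p - 1)) {x : F} (hx0 : x ≠ 0) :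
    ∃ i u : F, i ^ p = i ∧ i ≠ 0 ∧ u ^ nn p q = 1 ∧ x = i * u := by
  obtain ⟨m, -, hm⟩ := Nat.exists_mul_mod_eq_one_of_coprime hA (by have := hp.out.two_le; omega)
  set i := (x ^ nn p q) ^ m with hi
  have hi0 : i ≠ 0 := pow_ne_zero _ (pow_ne_zero _ hx0)
  refine ⟨i, i⁻¹ * x, ?_, hi0, ?_, by rw [mul_inv_cancel_left₀ hi0]⟩
  · rw [hi, ← pow_mul, mul_comm m p, pow_mul, pow_nn_pow hF hx0]
  · have h1 : (x ^ nn p q) ^ (p - 1) = 1 := by
      rw [← pow_mul, nn_mul, ← hF]; exact FiniteField.pow_card_sub_one_eq_one x hx0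
    have h2 : i ^ nn p q = x ^ nn p q := by
      rw [hi, ← pow_mul, mul_comm m]
      conv_lhs => rw [← Nat.div_add_mod (nn p q * m) (p - 1), hm, pow_add, pow_mul, h1, one_pow,
        one_mul, pow_one]
    rw [mul_pow, inv_pow, h2, inv_mul_cancel₀ (pow_ne_zero _ hx0)]

theorem pow_nn_prod (x : F) : x ^ nn p q = ∏ j ∈ Finset.range q, x ^ p ^ j := by
  rw [nn_eq_sum, Finset.prod_pow_eq_pow_sum]

/-- `E` closed under inversion and with an element other than `1` forces `p ≤ q`. -/
theorem le_of_inv_closed (hinv : ∀ a : F, InE p q a → InE p q a⁻¹) {a : F} (ha : InE p q a)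
    (ha1 : a ≠ 1) : p ≤ q := by
  haveI := charP hF
  by_contra hlt
  push Not at hlt
  have hn0 : nn p q ≠ 0 := nn_pos.ne'
  have hE2 : ∀ x : F, InE p q x → InE p q (2 - x) := fun x hx => ⟨hx.2, by rw [sub_sub_cancel]; exact hx.1⟩
  have hne : ∀ x : F, x ^ nn p q = 1 → x ≠ 0 := fun x hx h => by
    rw [h, zero_pow hn0] at hx; exact zero_ne_one hx
  set d := 1 - a with hd
  let g : ℕ → F := fun k => 1 + k * d
  have hg : ∀ k, g k ^ nn p q = 1 ∧ g (k + 1) ^ nn p q = 1 ∧ InE p q (g k / g (k + 1)) := by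
    intro k
    induction k with
    | zero =>
      have h1 : g 1 = 2 - a := by simp only [g, hd]; push_cast; ring
      refine ⟨by simp [g], by rw [h1]; exact ha.2, ?_⟩
      rw [show g 0 = 1 by simp [g], h1, one_div]
      exact hinv _ (hE2 a ha)
    | succ k ih =>
      obtain ⟨-, h1, hE⟩ := ih
      have h0 := hne _ h1
      have e : 2 - g k / g (k + 1) = g (k + 1 + 1) / g (k + 1) := by
        field_simp
        simp only [g]; push_cast; ring
      have hE' := hE2 _ hE
      rw [e] at hE'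
      have h2 : g (k + 1 + 1) ^ nn p q = 1 := by
        have := hE'.1
        rw [div_pow, h1, div_one] at this
        exact this
      refine ⟨h1, h2, ?_⟩
      rw [← inv_div]
      exact hinv _ hE'
  set Φ : F[X] := ∏ j ∈ Finset.range q, (C (d ^ p ^ j) * X + 1) - 1 with hΦ
  have hdeg : ∀ j ∈ Finset.range q, (C (d ^ p ^ j) * X + 1 : F[X]).natDegree ≤ 1 := fun j _ =>
    natDegree_add_le_of_degree_le ((natDegree_C_mul_le _ _).trans natDegree_X_le) (by simp)
  have hroot : ∀ k : ℕ, Φ.eval (k : F) = 0 := by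
    intro k
    have hk := (hg k).1
    rw [pow_nn_prod hF] at hk
    have hj : ∀ j, g k ^ p ^ j = d ^ p ^ j * (k : F) + 1 := by
      intro j
      simp only [g]
      rw [add_pow_char_pow, one_pow, mul_pow]
      have : ((k : F)) ^ p ^ j = k := by
        induction j with
        | zero => simp
        | succ j ih => rw [pow_succ, pow_mul, ih, natCast_pow hF]
      rw [this]; ring
    simp only [hj] at hk
    simp [hΦ, eval_prod, hk]
  have hΦdeg : Φ.natDegree ≤ q := by
    refine (natDegree_sub_le _ _).trans (max_le ?_ (by simp))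
    refine (natDegree_prod_le _ _).trans ((Finset.sum_le_card_nsmul _ _ 1 hdeg).trans ?_)
    simp
  have hzero : Φ = 0 := eq_zero_of_natDegree_lt_card_of_eval_eq_zero Φ
    (f := fun k : Fin p => ((k : ℕ) : F))
    (fun i j h => Fin.ext (CharP.natCast_injOn_Iio F p i.isLt j.isLt h))
    (fun i => hroot i) (by rw [Fintype.card_fin]; omega)
  have hc : Φ.coeff q = d ^ nn p q := by
    rw [hΦ, coeff_sub, coeff_one, if_neg hq.out.ne_zero, sub_zero]
    have := coeff_prod_of_natDegree_le (s := Finset.range q) (fun j => (C (d ^ p ^ j) * X + 1 : F[X])) 1 hdeg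
    rw [Finset.card_range, mul_one] at this
    rw [this, pow_nn_prod hF]
    exact Finset.prod_congr rfl fun j _ => by rw [coeff_add, coeff_C_mul, coeff_X_one, mul_one, coeff_one, if_neg one_ne_zero, add_zero]
  rw [hzero, coeff_zero] at hc
  exact ha1 (sub_eq_zero.mp (pow_eq_zero_iff hn0 |>.mp hc.symm)).symm

theorem card_normOne [DecidableEq F] : (Finset.univ.filter fun x : F => x ^ nn p q = 1).card = nn p q := by
  classical
  set U := Finset.univ.filter fun x : F => x ^ nn p q = 1
  refine le_antisymm ?_ ?_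
  · refine le_trans ?_ (le_trans (Multiset.toFinset_card_le ((X ^ nn p q - C 1 : F[X]).roots))
      ((card_roots' _).trans_eq natDegree_X_pow_sub_C))
    refine Finset.card_le_card fun x hx => ?_
    rw [Multiset.mem_toFinset, mem_roots (X_pow_sub_C_ne_zero nn_pos _)]
    simp [(Finset.mem_filter.mp hx).2]
  · set S := (Finset.univ : Finset F).erase 0
    have hmap : ∀ x ∈ S, x ^ (p - 1) ∈ U := fun x hx => by
      simp only [U, Finset.mem_filter, Finset.mem_univ, true_and]
      rw [← pow_mul, mul_comm, nn_mul, ← hF]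
      exact FiniteField.pow_card_sub_one_eq_one x (Finset.ne_of_mem_erase hx)
    have hfib : ∀ u ∈ U, (S.filter fun x => x ^ (p - 1) = u).card ≤ p - 1 := by
      intro u _
      have hp1 : 0 < p - 1 := by have := hp.out.two_le; omega
      refine le_trans ?_ (le_trans (Multiset.toFinset_card_le ((X ^ (p - 1) - C u : F[X]).roots))
        ((card_roots' _).trans_eq natDegree_X_pow_sub_C))
      refine Finset.card_le_card fun x hx => ?_
      rw [Multiset.mem_toFinset, mem_roots (X_pow_sub_C_ne_zero hp1 _)]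
      simp [(Finset.mem_filter.mp hx).2]
    have h := Finset.card_le_mul_card_image_of_maps_to hmap (p - 1) hfib
    rw [Finset.card_erase_of_mem (Finset.mem_univ 0), Finset.card_univ, hF,
      ← @nn_mul p q hp, mul_comm (p - 1)] at h
    exact Nat.le_of_mul_le_mul_right h (Nat.sub_pos_of_lt hp.out.one_lt)

theorem exists_ne_one_of_five_le (hp2 : p ≠ 2) (hq5 : 5 ≤ q) : ∃ a : F, InE p q a ∧ a ≠ 1 := by
  classical
  by_contra hcon
  push Not at hcon
  set n := nn p q with hn
  set U := Finset.univ.filter fun x : F => x ^ n = 1 with hU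
  have hUc : U.card = n := card_normOne hF
  have hmemU : ∀ x : F, x ∈ U ↔ x ^ n = 1 := fun x => by simp [hU]
  have hU0 : ∀ x ∈ U, x ≠ 0 := fun x hx h => by
    rw [hmemU, h, zero_pow nn_pos.ne'] at hx; exact zero_ne_one hx
  set A := (Finset.univ : Finset F).erase 0 with hA
  have hAc : A.card = p ^ q - 1 := by
    rw [hA, Finset.card_erase_of_mem (Finset.mem_univ 0), Finset.card_univ, hF]
  set W := U ×ˢ U with hW
  have hWc : W.card = n * n := by rw [hW, Finset.card_product, hUc]
  let T : F → F → ℕ := fun a b => (W.filter fun w => w.2 + a * w.1 = b).card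
  have hT1 : ∀ a, ∑ b, T a b = n * n := fun a => by
    rw [← hWc]
    exact (Finset.card_eq_sum_card_fiberwise (fun w _ => Finset.mem_univ _)).symm
  have hT2 : ∑ a ∈ A, ∑ b, T a b * T a b = n * n * ((p ^ q - 1) + (n - 1) * (n - 1)) := by
    have e1 : ∀ a, ∑ b, T a b * T a b =
        ∑ w ∈ W, (W.filter fun w' => w'.2 + a * w'.1 = w.2 + a * w.1).card := by
      intro a
      rw [← Finset.sum_fiberwise W (fun w => w.2 + a * w.1)]
      refine Finset.sum_congr rfl fun b _ => ?_
      rw [Finset.sum_congr rfl (g := fun _ => T a b)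
        (fun w hw => by rw [(Finset.mem_filter.mp hw).2]), Finset.sum_const, smul_eq_mul]
    simp only [e1]
    rw [Finset.sum_comm, Finset.sum_congr rfl (g := fun _ => (p ^ q - 1) + (n - 1) * (n - 1)),
      Finset.sum_const, smul_eq_mul, hWc]
    intro w hw
    obtain ⟨hw1, hw2⟩ := Finset.mem_product.mp hw
    simp only [Finset.card_filter]
    rw [Finset.sum_comm, ← Finset.add_sum_erase W _ hw]
    congr 1
    · simp [hAc]
    · have key : ∀ w' ∈ W.erase w, (∑ a ∈ A, if w'.2 + a * w'.1 = w.2 + a * w.1 then 1 else 0) =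
          if w'.1 ≠ w.1 ∧ w'.2 ≠ w.2 then 1 else 0 := by
        intro w' hw'
        have hne := (Finset.mem_erase.mp hw').1
        rw [← Finset.card_filter]
        split_ifs with h
        · rw [Finset.card_eq_one]
          refine ⟨(w.2 - w'.2) / (w'.1 - w.1), ?_⟩
          have hd : w'.1 - w.1 ≠ 0 := sub_ne_zero.mpr h.1
          ext a
          simp only [Finset.mem_filter, Finset.mem_singleton, hA, Finset.mem_erase, Finset.mem_univ,
            and_true]
          constructor
          · rintro ⟨-, e⟩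
            rw [eq_div_iff hd]; linear_combination e
          · rintro rfl
            refine ⟨div_ne_zero (sub_ne_zero.mpr (Ne.symm h.2)) hd, ?_⟩
            field_simp
            ring
        · rw [Finset.card_eq_zero, Finset.filter_eq_empty_iff]
          intro a ha e
          have ha0 : a ≠ 0 := Finset.ne_of_mem_erase ha
          apply hne
          by_cases h1 : w'.1 = w.1
          · exact Prod.ext h1 (by rw [h1] at e; exact add_right_cancel e)
          · have h2 : w'.2 = w.2 := not_not.mp fun h2 => h ⟨h1, h2⟩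
            rw [h2] at e
            exact absurd (mul_left_cancel₀ ha0 (add_left_cancel e)) h1
      rw [Finset.sum_congr rfl key, ← Finset.card_filter,
        show (W.erase w).filter (fun w' => w'.1 ≠ w.1 ∧ w'.2 ≠ w.2) = (U.erase w.1) ×ˢ (U.erase w.2) by
          ext ⟨x, y⟩
          simp only [hW, Finset.mem_filter, Finset.mem_erase, Finset.mem_product, ne_eq, Prod.ext_iff]
          tauto,
        Finset.card_product, Finset.card_erase_of_mem hw1, Finset.card_erase_of_mem hw2, hUc]
  -- the orbit of `(1, 2)`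
  set T₀ := T 1 2 with hT₀
  set S := W.image fun z => (z.1, z.2 * 2) with hS
  haveI := charP hF
  have h20 : (2 : F) ≠ 0 := Ring.two_ne_zero (by rwa [ringChar.eq F p])
  have hSc : S.card = n * n := by
    rw [hS, Finset.card_image_of_injective _ (fun x y h => ?_), hWc]
    simp only [Prod.mk.injEq] at h
    exact Prod.ext h.1 (mul_right_cancel₀ h20 h.2)
  have hconst : ∀ z ∈ S, T z.1 z.2 = T₀ := by
    intro z hz
    obtain ⟨⟨u, v⟩, huv, rfl⟩ := Finset.mem_image.mp hz
    obtain ⟨hu, hv⟩ := Finset.mem_product.mp huv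
    have hu0 := hU0 u hu
    have hv0 := hU0 v hv
    rw [hmemU] at hu hv
    refine Finset.card_bij' (fun w _ => (w.1 * u / v, w.2 / v)) (fun w _ => (w.1 * v / u, w.2 * v))
      ?_ ?_ ?_ ?_
    · intro w hw
      simp only [hW, Finset.mem_filter, Finset.mem_product, hmemU] at hw ⊢
      obtain ⟨⟨h1, h2⟩, e⟩ := hw
      refine ⟨⟨by simp [div_pow, mul_pow, hu, hv, h1], by simp [div_pow, hv, h2]⟩, ?_⟩
      field_simp
      linear_combination e
    · intro w hw
      simp only [hW, Finset.mem_filter, Finset.mem_product, hmemU] at hw ⊢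
      obtain ⟨⟨h1, h2⟩, e⟩ := hw
      refine ⟨⟨by simp [div_pow, mul_pow, hu, hv, h1], by simp [mul_pow, hv, h2]⟩, ?_⟩
      field_simp
      linear_combination e
    · intro w _; ext <;> simp <;> field_simp
    · intro w _; ext <;> simp <;> field_simp
  have hT₀1 : T₀ ≤ 1 := by
    refine (Finset.card_le_one).mpr fun x hx y hy => ?_
    simp only [hW, Finset.mem_filter, Finset.mem_product, hmemU] at hx hy
    have hx1 : x.1 = 1 := hcon _ ⟨hx.1.1, by
      rw [show (2 : F) - x.1 = x.2 by linear_combination -hx.2]; exact hx.1.2⟩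
    have hy1 : y.1 = 1 := hcon _ ⟨hy.1.1, by
      rw [show (2 : F) - y.1 = y.2 by linear_combination -hy.2]; exact hy.1.2⟩
    refine Prod.ext (hx1.trans hy1.symm) ?_
    linear_combination hx.2 - hy.2 - hx1 + hy1
  -- second moment
  set Q : ℤ := (p : ℤ) ^ q with hQ
  have hQn : ((p ^ q - 1 : ℕ) : ℤ) = Q - 1 := by
    rw [Nat.cast_sub (Nat.one_le_pow _ _ hp.out.pos)]; simp [hQ]
  have hn1 : ((n - 1 : ℕ) : ℤ) = (n : ℤ) - 1 := by
    rw [Nat.cast_sub (show 1 ≤ n from nn_pos (p := p) (q := q))]; simp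
  have hsum : ∑ z ∈ A ×ˢ (Finset.univ : Finset F), (Q * (T z.1 z.2 : ℤ) - (n : ℤ) * n) ^ 2
      = (n : ℤ) * n * Q * (Q - n) ^ 2 := by
    have e1 : ∑ z ∈ A ×ˢ (Finset.univ : Finset F), (T z.1 z.2 : ℤ) = (Q - 1) * (n * n) := by
      rw [Finset.sum_product, Finset.sum_congr rfl (g := fun _ => ((n * n : ℕ) : ℤ))
        (fun a _ => by rw [← Nat.cast_sum, hT1]), Finset.sum_const, hAc, nsmul_eq_mul, hQn]
      push_cast; ring
    have e2 : ∑ z ∈ A ×ˢ (Finset.univ : Finset F), (T z.1 z.2 : ℤ) * T z.1 z.2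
        = n * n * ((Q - 1) + (n - 1) * (n - 1)) := by
      rw [Finset.sum_product]
      have := congrArg (Nat.cast (R := ℤ)) hT2
      push_cast at this
      rw [this, hQn, hn1]
    have e3 : ((A ×ˢ (Finset.univ : Finset F)).card : ℤ) = (Q - 1) * Q := by
      rw [Finset.card_product, hAc, Finset.card_univ, hF, Nat.cast_mul, hQn, hQ]; push_cast; ring
    rw [Finset.sum_congr rfl (g := fun z => Q ^ 2 * ((T z.1 z.2 : ℤ) * T z.1 z.2)
        - 2 * Q * (n * n) * (T z.1 z.2 : ℤ) + (n : ℤ) * n * (n * n)) (fun z _ => by ring),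
      Finset.sum_add_distrib, Finset.sum_sub_distrib, ← Finset.mul_sum, ← Finset.mul_sum,
      Finset.sum_const, e1, e2, nsmul_eq_mul, e3]
    ring
  have hSsub : S ⊆ A ×ˢ (Finset.univ : Finset F) := fun z hz => by
    obtain ⟨⟨u, v⟩, huv, rfl⟩ := Finset.mem_image.mp hz
    exact Finset.mem_product.mpr ⟨Finset.mem_erase.mpr ⟨hU0 u (Finset.mem_product.mp huv).1,
      Finset.mem_univ _⟩, Finset.mem_univ _⟩
  have hle : (n : ℤ) * n * (Q * T₀ - n * n) ^ 2 ≤ (n : ℤ) * n * Q * (Q - n) ^ 2 := by
    rw [← hsum]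
    refine le_trans (le_of_eq ?_) (Finset.sum_le_sum_of_subset_of_nonneg hSsub
      (fun z _ _ => sq_nonneg _))
    rw [Finset.sum_congr rfl (g := fun _ => (Q * T₀ - (n : ℤ) * n) ^ 2)
      (fun z hz => by rw [hconst z hz]), Finset.sum_const, hSc, nsmul_eq_mul]
    push_cast; ring
  have hnpos : (0 : ℤ) < n := by exact_mod_cast nn_pos (p := p) (q := q)
  have hle' : (Q * T₀ - (n : ℤ) * n) ^ 2 ≤ Q * (Q - n) ^ 2 :=
    le_of_mul_le_mul_left (by linarith) (mul_pos hnpos hnpos)
  have hp3 : (3 : ℤ) ≤ p := by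
    have := hp.out.two_le
    exact_mod_cast (show 3 ≤ p by omega)
  obtain ⟨r, hr⟩ : ∃ r, q = r + 2 := ⟨q - 2, by omega⟩
  have hlow : (p : ℤ) ^ (r + 1) + (p : ℤ) ^ r ≤ n := by
    have : p ^ (r + 1) + p ^ r ≤ n := by
      rw [hn, nn_eq_sum, hr, Finset.sum_range_succ, Finset.sum_range_succ]
      omega
    exact_mod_cast this
  have hQpos : 0 < Q := by rw [hQ]; positivity
  have hnQ : (n : ℤ) ≤ Q := by
    have h := @nn_mul p q hp
    have : n ≤ p ^ q := by
      calc n ≤ n * (p - 1) := Nat.le_mul_of_pos_right n (by have := hp.out.two_le; omega)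
        _ ≤ p ^ q := by rw [h]; exact Nat.sub_le _ _
    rw [hQ]; exact_mod_cast this
  have hr3 : 3 ≤ r := by omega
  have hR : ((p : ℤ) ^ (r + 1)) ^ 2 ≤ (n : ℤ) * n - Q := by
    have h1 : ((p : ℤ) ^ (r + 1) + (p : ℤ) ^ r) ^ 2 ≤ (n : ℤ) * n := by
      rw [← sq]; exact pow_le_pow_left₀ (by positivity) hlow 2
    have h2 : Q ≤ 2 * ((p : ℤ) ^ (r + 1) * (p : ℤ) ^ r) := by
      rw [hQ, hr, ← pow_add]
      exact le_trans (pow_le_pow_right₀ (by linarith) (by omega : r + 2 ≤ r + 1 + r))
        (le_mul_of_one_le_left (by positivity) (by norm_num))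
    nlinarith
  have hT' : Q * (T₀ : ℤ) ≤ Q := mul_le_of_le_one_right hQpos.le (by exact_mod_cast hT₀1)
  have h3 : (((p : ℤ) ^ (r + 1)) ^ 2) ^ 2 ≤ (Q * T₀ - (n : ℤ) * n) ^ 2 := by
    rw [show (Q * T₀ - (n : ℤ) * n) ^ 2 = ((n : ℤ) * n - Q * T₀) ^ 2 by ring]
    exact pow_le_pow_left₀ (by positivity) (by linarith) 2
  have h4 : Q * (Q - n) ^ 2 ≤ Q ^ 3 := by
    calc Q * (Q - n) ^ 2 ≤ Q * Q ^ 2 :=
          mul_le_mul_of_nonneg_left (pow_le_pow_left₀ (by linarith) (by linarith) 2) hQpos.le
      _ = Q ^ 3 := by ring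
  have h5 : Q ^ 3 < (((p : ℤ) ^ (r + 1)) ^ 2) ^ 2 := by
    rw [hQ, ← pow_mul, ← pow_mul, ← pow_mul, hr]
    exact pow_lt_pow_right₀ (by linarith) (by omega)
  linarith

theorem exists_ne_one_of_three (hp2 : p ≠ 2) (hq3 : q = 3) : ∃ a : F, InE p q a ∧ a ≠ 1 := by
  classical
  haveI := charP hF
  subst hq3
  obtain ⟨b, hb⟩ : ∃ b : ZMod p, ∀ r : ZMod p, r ^ 3 + b * r ^ 2 - (3 + 2 * b) * r - 1 ≠ 0 := by
    by_contra h
    push Not at h
    choose r hr using h
    have h2 : ∀ b, r b ≠ 0 ∧ r b ≠ 2 := fun b => ⟨fun e => by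
      have := hr b; rw [e] at this; simp at this, fun e => by
      have := hr b
      rw [e] at this
      apply one_ne_zero (α := ZMod p)
      linear_combination this⟩
    have hinj : Function.Injective r := fun b c e => by
      have h1 := hr b
      have h3 := hr c
      rw [← e] at h3
      have h4 : (b - c) * (r b * (r b - 2)) = 0 := by linear_combination h1 - h3
      exact sub_eq_zero.mp ((mul_eq_zero.mp h4).resolve_right
        (mul_ne_zero (h2 b).1 (sub_ne_zero.mpr (h2 b).2)))
    obtain ⟨b, hb⟩ := (Finite.surjective_of_injective hinj) 0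
    exact (h2 b).1 hb
  set f : (ZMod p)[X] := X ^ 3 + C b * X ^ 2 - C (3 + 2 * b) * X - 1 with hf
  have hdeg : f.natDegree = 3 := by rw [hf]; compute_degree!
  have hmon : f.Monic := by rw [hf]; monicity!
  have hirr : Irreducible f := by
    rw [Polynomial.irreducible_iff_roots_eq_zero_of_degree_le_three (by omega) (by omega)]
    rw [Multiset.eq_zero_iff_forall_notMem]
    intro r hr
    rw [mem_roots hmon.ne_zero] at hr
    apply hb r
    have := hr
    simp [hf] at this
    linear_combination this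
  haveI := Fact.mk hirr
  haveI := (AdjoinRoot.powerBasis hirr.ne_zero).finite
  haveI : Finite (AdjoinRoot f) := Module.finite_of_finite (ZMod p)
  haveI : Fintype (AdjoinRoot f) := Fintype.ofFinite _
  haveI := (AdjoinRoot.powerBasis hirr.ne_zero).finite
  have hcard : Fintype.card (AdjoinRoot f) = Fintype.card F := by
    rw [← Nat.card_eq_fintype_card, Module.natCard_eq_pow_finrank (K := ZMod p),
      (AdjoinRoot.powerBasis hirr.ne_zero).finrank, AdjoinRoot.powerBasis_dim, hdeg, hF, Nat.card_zmod]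
  let e : AdjoinRoot f ≃+* F := FiniteField.ringEquivOfCardEq hcard
  set a := e (AdjoinRoot.root f) with ha
  let φ : ZMod p →+* F := e.toRingHom.comp (AdjoinRoot.of f)
  set B := φ b with hB
  have hBp : B ^ p = B := by rw [hB, ← map_pow, ZMod.pow_card]
  have heval : a ^ 3 + B * a ^ 2 - (3 + 2 * B) * a - 1 = 0 := by
    have h := AdjoinRoot.eval₂_root f
    simp only [hf, eval₂_sub, eval₂_add, eval₂_mul, eval₂_pow, eval₂_X, eval₂_C, eval₂_one, map_add,
      map_mul, map_ofNat] at h
    have := congrArg e h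
    simpa [ha, hB, φ, map_ofNat] using this
  have hnp : a ^ p ≠ a := by
    intro h
    obtain ⟨k, -, hk⟩ := exists_natCast hF h
    apply hb k
    apply φ.injective
    simp only [map_sub, map_add, map_mul, map_pow, map_natCast, map_ofNat, map_one, map_zero]
    rw [hk]
    exact heval
  have hroot' : ∀ x : F, x ^ 3 + B * x ^ 2 - (3 + 2 * B) * x - 1 = 0 →
      (x ^ p) ^ 3 + B * (x ^ p) ^ 2 - (3 + 2 * B) * x ^ p - 1 = 0 := by
    intro x hx
    have := congrArg (frobenius F p) hx
    simp only [map_sub, map_add, map_mul, map_pow, map_one, map_zero, map_ofNat, frobenius_def, hBp] at this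
    exact this
  have hne' : (a ^ p) ^ p ≠ a := by
    intro h
    have h3 : a ^ (p ^ 3) = a := hF ▸ FiniteField.pow_card a
    rw [show p ^ 3 = p * p * p by ring, pow_mul, pow_mul, h] at h3
    exact hnp h3
  have hne'' : (a ^ p) ^ p ≠ a ^ p := fun h => hnp ((frobenius_inj F p) h)
  set x := a ^ p with hx
  set y := x ^ p with hy
  have e1 := heval
  have e2 := hroot' a e1
  have e3 := hroot' x e2
  rw [← hx] at e2
  rw [← hy] at e3
  have d1 : a ^ 2 + a * x + x ^ 2 + B * (a + x) - (3 + 2 * B) = 0 := by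
    apply mul_left_cancel₀ (sub_ne_zero.mpr (Ne.symm hnp))
    linear_combination e1 - e2
  have d2 : a ^ 2 + a * y + y ^ 2 + B * (a + y) - (3 + 2 * B) = 0 := by
    apply mul_left_cancel₀ (sub_ne_zero.mpr (Ne.symm hne'))
    linear_combination e1 - e3
  have d3 : a + x + y + B = 0 := by
    apply mul_left_cancel₀ (sub_ne_zero.mpr (Ne.symm hne''))
    linear_combination d1 - d2
  have hprod : a * x * y = 1 := by
    linear_combination e1 - a * d1 + a * x * d3
  have hn : ∀ z : F, z ^ nn p 3 = z * z ^ p * (z ^ p) ^ p := by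
    intro z
    rw [pow_nn_prod hF, Finset.prod_range_succ, Finset.prod_range_succ, Finset.prod_range_one,
      pow_zero, pow_one, pow_one, pow_two, pow_mul]
  refine ⟨a, ⟨by rw [hn]; exact hprod, ?_⟩, fun h => hnp (by rw [hx, h, one_pow])⟩
  have h2p : ∀ z : F, (2 - z) ^ p = 2 - z ^ p := fun z => by
    rw [← frobenius_def, map_sub, map_ofNat, frobenius_def]
  rw [hn, h2p, h2p, ← hx, ← hy]
  linear_combination (-2 : F) * d1 + (2 * (a + x) - 4) * d3 - hprod

theorem exists_ne_one (hp2 : p ≠ 2) (hA : (nn p q).Coprime (p - 1)) :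
    ∃ a : F, InE p q a ∧ a ≠ 1 := by
  have h2 := q_ne_two hp2 hA
  have := hq.out.two_le
  rcases eq_or_ne q 3 with h | h
  · exact exists_ne_one_of_three hF hp2 h
  · refine exists_ne_one_of_five_le hF hp2 ?_
    by_contra h5
    interval_cases q <;> first | omega | (norm_num at hq; exact absurd hq.out (by norm_num))

end Field

end CfsgLib.NormPair
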